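import Cfsg.Agent.Foote.Transfer
import Cfsg.Agent.ClosedTwo.Row
import Cfsg.Agent.ClosedTwo.Elem

/-!
# Closed families and strongly closed subgroups (helper29)

`closedRow_iff : ClosedRow G ↔ CR G`, and the transfer lemma in the language of strongly closed subgroups.
-/

set_option autoImplicit false
set_option linter.style.haveILetI false

namespace Cfsg.Agent.Foote

open Subgroup Cfsg.Agent.TwoFusion.ClosedFam Cfsg.Agent.ClosedTwo

variable {G : Type*} [Group G]

theorem cr_of_closedRow [Finite G] (h : ClosedRow G) : CR G := by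
  haveI : Fact (Nat.Prime 2) := ⟨Nat.prime_two⟩
  intro 𝒜 h𝒜
  obtain ⟨S⟩ : Nonempty (Sylow 2 G) := inferInstance
  rcases h S _ (h𝒜.isStronglyClosed S) with h1 | h1
  · left
    refine triv_of_sylow h𝒜 S fun x hx hxS => ?_
    have : x ∈ fam 𝒜 (S : Subgroup G) := mem_fam hx hxS
    rw [h1] at this
    exact mem_bot.1 this
  · right
    refine full_of_sylow h𝒜 S fun x hx => ?_
    have : x ∈ fam 𝒜 (S : Subgroup G) := by rw [h1]; exact hx
    exact ((h𝒜.mem_fam_iff S.2).1 this).1

/-- the strongly closed subgroup of a full family -/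
theorem eq_of_full [Finite G] {S : Sylow 2 G} {A : Subgroup G} (hA : IsStronglyClosed A (S : Subgroup G))
    (h : Full {x : G | ∃ g : G, g * x * g⁻¹ ∈ A}) : A = (S : Subgroup G) := by
  apply le_antisymm hA.1
  intro x hx
  obtain ⟨g, hg⟩ := h x (twoEl_of_mem S.2 hx)
  have h1 := hA.2 _ hg g⁻¹ (by
    have e : g⁻¹ * (g * x * g⁻¹) * g⁻¹⁻¹ = x := by group
    rw [e]; exact hx)
  have e : g⁻¹ * (g * x * g⁻¹) * g⁻¹⁻¹ = x := by group
  rwa [e] at h1

theorem CR.closedRow [Finite G] (h : CR G) : ClosedRow G := by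
  intro S A hA
  rcases h _ (isClosedFam_of_isStronglyClosed S A hA) with h1 | h1
  · left
    rw [eq_bot_iff]
    intro x hx
    exact mem_bot.2 (h1 x ⟨1, by simpa using hx⟩)
  · exact Or.inr (eq_of_full hA h1)

theorem closedRow_iff [Finite G] : ClosedRow G ↔ CR G := ⟨cr_of_closedRow, CR.closedRow⟩

/-- **Transfer lemma** for strongly closed subgroups: `G` perfect, `S = A⟨s⟩`; then `A = S`. -/
theorem eq_sylow_of_cyclic [Finite G] (hG : commutator G = ⊤) (S : Sylow 2 G) {A : Subgroup G}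
    (hA : IsStronglyClosed A (S : Subgroup G)) (s : G) (hs : s ∈ S) (hcyc : ∀ x ∈ S, ∃ n : ℤ, x * s ^ n ∈ A) :
    A = (S : Subgroup G) := by
  have h := isClosedFam_of_isStronglyClosed S A hA
  refine eq_of_full hA (full_of_cyclic hG h S s hs fun x hx => ?_)
  obtain ⟨n, hn⟩ := hcyc x hx
  exact ⟨n, 1, by simpa using hn⟩

/-- the same with `|S : A| ≤ 2` -/
theorem eq_sylow_of_two [Finite G] (hG : commutator G = ⊤) (S : Sylow 2 G) {A : Subgroup G}
    (hA : IsStronglyClosed A (S : Subgroup G)) (h2 : ∀ x ∈ S, ∀ y ∈ S, x ∉ A → y ∉ A → x * y ∈ A) :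
    A = (S : Subgroup G) := by
  by_cases hSA : (S : Subgroup G) ≤ A
  · exact le_antisymm hA.1 hSA
  obtain ⟨s, hs, hsA⟩ := SetLike.not_le_iff_exists.1 hSA
  refine eq_sylow_of_cyclic hG S hA s hs fun x hx => ?_
  by_cases hxA : x ∈ A
  · exact ⟨0, by rwa [zpow_zero, mul_one]⟩
  · exact ⟨1, by rw [zpow_one]; exact h2 x hx s hs hxA hsA⟩

/-- a simple nonabelian group is perfect -/
theorem perfect_of_simple [IsSimpleGroup G] (hna : ¬ ∀ a b : G, a * b = b * a) : commutator G = ⊤ := by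
  refine (IsSimpleGroup.eq_bot_or_eq_top_of_normal (commutator G) inferInstance).resolve_left ?_
  intro hb
  apply hna
  intro a b
  have h1 : a * b * a⁻¹ * b⁻¹ ∈ commutator G := commutator_mem_commutator (mem_top a) (mem_top b)
  rw [hb, mem_bot, mul_inv_eq_one, mul_inv_eq_iff_eq_mul] at h1
  exact h1

end Cfsg.Agent.Foote
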