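import Cfsg.Agent.Foote.Sheet

/-!
# Foote's theorem, simple case: the induction hypothesis in terms of orders (helper29)

* `Exc n` : `n` is the order of `U₃(2ᵏ)` (`k ≥ 2`) or of `Sz(2^(2k+1))` (`k ≥ 1`);
* `IndCR n` : all the nonabelian simple groups of order less than `n` have the property `CR` or an exceptional order;
* `not_exc` : a numerical criterion;
* `cr_of_sheet_quasi` : the groups with a sheet of type (E), `P/R` quasisimple.
-/

set_option autoImplicit false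
set_option linter.style.haveILetI false

namespace Cfsg.Agent.Foote

open Subgroup Cfsg.Agent.TwoFusion.ClosedFam Cfsg.Agent.OddHalf.D8.Sheet

universe u

/-- `n` is the order of `U₃(2ᵏ)` (`k ≥ 2`) or of `Sz(2^(2k+1))` (`k ≥ 1`) -/
def Exc (n : ℕ) : Prop :=
  (∃ k, 2 ≤ k ∧ n * Nat.gcd 3 (2 ^ k + 1) = 2 ^ (3 * k) * ((2 ^ (2 * k) - 1) * (2 ^ (3 * k) + 1))) ∨
    ∃ k, 1 ≤ k ∧ n = 2 ^ (2 * (2 * k + 1)) * ((2 ^ (2 * (2 * k + 1)) + 1) * (2 ^ (2 * k + 1) - 1))

/-- the induction hypothesis -/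
def IndCR (n : ℕ) : Prop :=
  ∀ (L : Type u) [Group L] [Finite L] [IsSimpleGroup L], (∃ a b : L, a * b ≠ b * a) → Nat.card L < n →
    Exc (Nat.card L) ∨ CR L

theorem IndCR.mono {m n : ℕ} (h : IndCR.{u} n) (hmn : m ≤ n) : IndCR.{u} m :=
  fun L _ _ _ hna hL => h L hna (hL.trans_le hmn)

theorem two_pow_unique {a b m n : ℕ} (hm : Odd m) (hn : Odd n) (h : 2 ^ a * m = 2 ^ b * n) : a = b ∧ m = n := by
  have key : ∀ {a b m n : ℕ}, Odd m → Odd n → 2 ^ a * m = 2 ^ b * n → a ≤ b := by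
    intro a b m n hm hn h
    have h1 : 2 ^ a ∣ 2 ^ b * n := ⟨m, h.symm⟩
    have h2 : Nat.Coprime (2 ^ a) n := Nat.Coprime.pow_left a (Nat.coprime_two_left.2 hn)
    exact (Nat.pow_dvd_pow_iff_le_right (by norm_num)).1 (h2.dvd_of_dvd_mul_right h1)
  have hab := le_antisymm (key hm hn h) (key hn hm h.symm)
  subst hab
  exact ⟨rfl, Nat.eq_of_mul_eq_mul_left (by positivity) h⟩

theorem odd_two_pow_sub {k : ℕ} (hk : k ≠ 0) : Odd (2 ^ k - 1) := by
  obtain ⟨j, rfl⟩ := Nat.exists_eq_succ_of_ne_zero hk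
  have : 1 ≤ 2 ^ j := Nat.one_le_two_pow
  exact ⟨2 ^ j - 1, by rw [pow_succ]; omega⟩

theorem odd_two_pow_add {k : ℕ} (hk : k ≠ 0) : Odd (2 ^ k + 1) := by
  obtain ⟨j, rfl⟩ := Nat.exists_eq_succ_of_ne_zero hk
  exact ⟨2 ^ j, by rw [pow_succ]; ring⟩

/-- the 2-part of an exceptional order -/
theorem Exc.dvd {a m : ℕ} (h : Exc (2 ^ a * m)) (hm : Odd m) :
    6 ≤ a ∧ (a % 3 = 0 ∨ a % 4 = 2) ∧ 2 ^ a + 1 ∣ 3 * m := by
  rcases h with ⟨k, hk, h⟩ | ⟨k, hk, h⟩
  · have hg : Odd (Nat.gcd 3 (2 ^ k + 1)) :=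
      Odd.of_dvd_nat (by decide : Odd 3) (Nat.gcd_dvd_left _ _)
    have h1 : Odd ((2 ^ (2 * k) - 1) * (2 ^ (3 * k) + 1)) :=
      (odd_two_pow_sub (by omega)).mul (odd_two_pow_add (by omega))
    rw [mul_assoc] at h
    obtain ⟨h2, h3⟩ := two_pow_unique (hm.mul hg) h1 h
    refine ⟨by omega, Or.inl (by omega), ?_⟩
    rw [h2]
    have h4 : 2 ^ (3 * k) + 1 ∣ m * Nat.gcd 3 (2 ^ k + 1) := ⟨2 ^ (2 * k) - 1, by rw [h3]; ring⟩
    refine h4.trans ?_
    rw [mul_comm 3 m]
    exact Nat.mul_dvd_mul_left m (Nat.gcd_dvd_left _ _)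
  · have h1 : Odd ((2 ^ (2 * (2 * k + 1)) + 1) * (2 ^ (2 * k + 1) - 1)) :=
      (odd_two_pow_add (by omega)).mul (odd_two_pow_sub (by omega))
    obtain ⟨h2, h3⟩ := two_pow_unique hm h1 h
    refine ⟨by omega, Or.inr (by omega), ?_⟩
    rw [h2, h3]
    exact Dvd.intro_left (3 * (2 ^ (2 * k + 1) - 1)) (by ring)

/-- the numerical condition -/
def NumOK (a M : ℕ) : Prop := a < 6 ∨ (a % 3 ≠ 0 ∧ a % 4 ≠ 2) ∨ ¬ 2 ^ a + 1 ∣ 3 * M

instance (a M : ℕ) : Decidable (NumOK a M) := by unfold NumOK; infer_instance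

theorem not_exc {a m M : ℕ} (hm : Odd m) (hmM : m ∣ M) (h : NumOK a M) : ¬ Exc (2 ^ a * m) := by
  intro he
  obtain ⟨h1, h2, h3⟩ := he.dvd hm
  rcases h with h | h | h
  · omega
  · omega
  · exact h (h3.trans (Nat.mul_dvd_mul_left 3 hmM))

variable {G : Type u} [Group G]

/-- a maximal normal subgroup above `R`: the quotient is simple -/
theorem exists_simple_quot {X : Type u} [Group X] [Finite X] (N₀ : Subgroup X) (hne : N₀ ≠ ⊤) [N₀.Normal] :
    ∃ N : Subgroup X, ∃ _ : N.Normal, N₀ ≤ N ∧ N ≠ ⊤ ∧ IsSimpleGroup (X ⧸ N) := by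
  classical
  have hfin : {N : Subgroup X | N.Normal ∧ N₀ ≤ N ∧ N ≠ ⊤}.Finite := Set.toFinite _
  obtain ⟨N, hN⟩ := hfin.exists_maximal ⟨N₀, inferInstance, le_refl _, hne⟩
  obtain ⟨⟨hNn, hN0, hNt⟩, hmax⟩ := hN
  refine ⟨N, hNn, hN0, hNt, ?_⟩
  haveI : Nontrivial (X ⧸ N) := QuotientGroup.nontrivial_iff.2 hNt
  refine ⟨fun H hH => ?_⟩
  have h1 : (H.comap (QuotientGroup.mk' N)).Normal := hH.comap _
  have h2 : N ≤ H.comap (QuotientGroup.mk' N) := by
    intro x hx
    rw [mem_comap]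
    have : QuotientGroup.mk' N x = 1 := (QuotientGroup.eq_one_iff x).2 hx
    rw [this]
    exact one_mem _
  by_cases h3 : H.comap (QuotientGroup.mk' N) = ⊤
  · right
    rw [eq_top_iff]
    intro y _
    obtain ⟨x, rfl⟩ := QuotientGroup.mk'_surjective N y
    have : x ∈ H.comap (QuotientGroup.mk' N) := by rw [h3]; exact mem_top _
    exact this
  · left
    have h4 := hmax ⟨h1, hN0.trans h2, h3⟩ h2
    rw [eq_bot_iff]
    intro y hy
    obtain ⟨x, rfl⟩ := QuotientGroup.mk'_surjective N y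
    have h5 : x ∈ N := h4 hy
    exact mem_bot.2 ((QuotientGroup.eq_one_iff x).2 h5)

/-- `|N : R|` is odd if the 2-elements of `N` lie in the 2-group `R` -/
theorem exists_card_eq {X : Type u} [Group X] [Finite X] {R N : Subgroup X} (hRN : R ≤ N)
    (h : ∀ x ∈ N, TwoEl x → x ∈ R) (hR : IsPGroup 2 R) : ∃ o, Odd o ∧ Nat.card N = Nat.card R * o := by
  haveI : Fact (Nat.Prime 2) := ⟨Nat.prime_two⟩
  obtain ⟨T⟩ : Nonempty (Sylow 2 N) := inferInstance
  have h1 : (T : Subgroup N) ≤ R.subgroupOf N := by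
    intro x hx
    rw [mem_subgroupOf]
    exact h x x.2 (twoEl_coe.2 (twoEl_of_mem T.2 hx))
  have h2 : IsPGroup 2 (R.subgroupOf N) := hR.comap_of_injective _ N.subtype_injective
  have h3 : R.subgroupOf N = T := T.3 h2 h1
  have h4 : ¬ 2 ∣ (T : Subgroup N).index := Sylow.not_dvd_index' T index_ne_zero_of_finite
  refine ⟨(T : Subgroup N).index, Nat.odd_iff.2 (by omega), ?_⟩
  have h5 := (T : Subgroup N).card_mul_index
  rw [← h5, ← h3, Nat.card_congr (subgroupOfEquivOfLe hRN).toEquiv]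

/-- the groups with a sheet of type (E), `P/R` quasisimple -/
theorem cr_of_sheet_quasi [Finite G] (hG : commutator G = ⊤) {z : G} {P R : Subgroup G} (hs : Cor z P R)
    (hidx : ∀ x y : G, x * z = z * x → y * z = z * y → x ∉ P → y ∉ P → x * y ∈ P)
    (hq : ∀ N : Subgroup G, N ≤ P → R ≤ N → (∀ p ∈ P, ∀ n ∈ N, p * n * p⁻¹ ∈ N) → ⁅N, P⁆ ≤ R ∨ N = P)
    (hP : P ≠ ⊤) (ih : IndCR.{u} (Nat.card G)) {a M₀ : ℕ}
    (hcard : ∃ M, Odd M ∧ M ∣ M₀ ∧ Nat.card P = Nat.card R * (2 ^ a * M)) (hnum : NumOK a M₀) : CR G := by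
  obtain ⟨M, hM, hMM, hcard⟩ := hcard
  haveI : Fact (Nat.Prime 2) := ⟨Nat.prime_two⟩
  haveI hNn : (R.subgroupOf P).Normal := ⟨fun n hn g => by
    rw [mem_subgroupOf] at hn ⊢
    simpa using hs.Rn g g.2 n hn⟩
  have hperf : commutator P = ⊤ := by
    have h1 := hs.perf
    apply map_injective P.subtype_injective
    rw [_root_.commutator_def, map_commutator, ← MonoidHom.range_eq_map, range_subtype, h1]
  have hPR : P ≠ R := by
    rintro rfl
    haveI : Nontrivial P := by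
      refine ⟨⟨⟨z, hs.zR⟩, 1, ?_⟩⟩
      intro he
      exact hs.z1 (congrArg Subtype.val he)
    haveI : Group.IsNilpotent P := hs.R2.isNilpotent
    exact (Group.IsSolvable.commutator_lt_top_of_nontrivial P).ne hperf
  have hRt : R.subgroupOf P ≠ ⊤ := by
    intro h1
    apply hPR
    exact le_antisymm (subgroupOf_eq_top.1 h1) hs.RP
  obtain ⟨N, hN, hRN, hNt, hsimp⟩ := exists_simple_quot (R.subgroupOf P) hRt
  have hR2' : IsPGroup 2 (R.subgroupOf P) := hs.R2.comap_of_injective _ P.subtype_injective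
  -- the 2-elements of `N` lie in `R`
  have h2 : ∀ x ∈ N, TwoEl x → x ∈ R.subgroupOf P := by
    intro x hx hx2
    have h3 : ⁅N.map P.subtype, P⁆ ≤ R ∨ N.map P.subtype = P := by
      refine hq _ (map_subtype_le _) ?_ ?_
      · intro r hr
        exact ⟨⟨r, hs.RP hr⟩, hRN (mem_subgroupOf.2 hr), rfl⟩
      · rintro p hp _ ⟨n, hn, rfl⟩
        exact ⟨⟨p, hp⟩ * n * ⟨p, hp⟩⁻¹, hN.conj_mem n hn _, rfl⟩
    rcases h3 with h3 | h3
    · -- `R⟨x⟩` is a normal 2-subgroup of `P`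
      have hxc : ∀ p ∈ P, (x : G) * p * (x : G)⁻¹ * p⁻¹ ∈ R := fun p hp =>
        h3 (commutator_mem_commutator ⟨x, hx, rfl⟩ hp)
      have h4 : zpowers x ⊔ R.subgroupOf P ≤ R.comap P.subtype := by
        have h5 : (zpowers x ⊔ R.subgroupOf P : Subgroup P).map P.subtype ≤ R := by
          refine hs.Rmax _ (map_subtype_le _) ((isPGroup_zpowers_sup hR2' hx2).map _) ?_
          have hsub : (zpowers x ⊔ R.subgroupOf P : Subgroup P).Normal := by
            constructor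
            intro n hn g
            -- modulo `R` the element `x` is central
            have h6 : (zpowers x ⊔ R.subgroupOf P : Subgroup P) ≤
                (zpowers x ⊔ R.subgroupOf P : Subgroup P).comap (MulAut.conj g).toMonoidHom := by
              refine sup_le ?_ ?_
              · rw [zpowers_le, mem_comap]
                have h7 : (MulAut.conj g).toMonoidHom x = (g * x * g⁻¹ * x⁻¹) * x := by
                  show g * x * g⁻¹ = _
                  group
                rw [h7]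
                refine mul_mem (mem_sup_right ?_) (mem_sup_left (mem_zpowers x))
                rw [mem_subgroupOf]
                have h8 := inv_mem (hxc g g.2)
                have e : ((x : G) * g * (x : G)⁻¹ * (g : G)⁻¹)⁻¹ = g * x * (g : G)⁻¹ * (x : G)⁻¹ := by group
                rw [e] at h8
                simpa using h8
              · intro r hr
                rw [mem_comap]
                exact mem_sup_right (hNn.conj_mem r hr g)
            exact h6 hn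
          rintro p hp _ ⟨n, hn, rfl⟩
          exact ⟨⟨p, hp⟩ * n * ⟨p, hp⟩⁻¹, hsub.conj_mem n hn _, rfl⟩
        exact fun y hy => h5 ⟨y, hy, rfl⟩
      exact h4 (mem_sup_left (mem_zpowers x))
    · exfalso
      apply hNt
      rw [eq_top_iff]
      intro p _
      have h4 : (p : G) ∈ N.map P.subtype := by rw [h3]; exact p.2
      obtain ⟨n, hn, hnp⟩ := h4
      have : n = p := Subtype.ext hnp
      rwa [← this]
  obtain ⟨o, ho, hoN⟩ := exists_card_eq hRN h2 hR2'
  have hcR : Nat.card (R.subgroupOf P) = Nat.card R := Nat.card_congr (subgroupOfEquivOfLe hs.RP).toEquiv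
  -- the order of the quotient
  have hcL : o * Nat.card (P ⧸ N) = 2 ^ a * M := by
    have h3 := N.card_mul_index
    rw [hoN, hcR, hcard, mul_assoc, index_eq_card] at h3
    exact Nat.eq_of_mul_eq_mul_left Nat.card_pos h3
  obtain ⟨b, m, hm, hbm⟩ := Nat.exists_eq_two_pow_mul_odd (Nat.card_pos (α := P ⧸ N)).ne'
  have hbm' : 2 ^ b * (o * m) = 2 ^ a * M := by rw [← hcL, hbm]; ring
  obtain ⟨hb, hom⟩ := two_pow_unique (ho.mul hm) hM hbm'
  have hex : ¬ Exc (Nat.card (P ⧸ N)) := by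
    rw [hbm, hb]
    exact not_exc hm ((Dvd.intro_left o hom).trans hMM) hnum
  -- the quotient is not abelian
  have hna : ∃ x y : P ⧸ N, x * y ≠ y * x := by
    by_contra hcon
    push Not at hcon
    apply hNt
    rw [eq_top_iff, ← hperf, _root_.commutator_def, commutator_le]
    intro x _ y _
    rw [← QuotientGroup.eq_one_iff (N := N), commutatorElement_def]
    have h3 := hcon (QuotientGroup.mk x) (QuotientGroup.mk y)
    have h4 : (QuotientGroup.mk (x * y * x⁻¹ * y⁻¹) : P ⧸ N) =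
        (QuotientGroup.mk x) * (QuotientGroup.mk y) * (QuotientGroup.mk x)⁻¹ * (QuotientGroup.mk y)⁻¹ := rfl
    rw [h4, h3]; group
  have hlt : Nat.card (P ⧸ N) < Nat.card G := by
    have h3 : Nat.card (P ⧸ N) ≤ Nat.card P := Nat.card_le_card_of_surjective _ (QuotientGroup.mk'_surjective N)
    have h4 : Nat.card P < Nat.card G := by
      refine lt_of_le_of_ne (card_le_card_group P) fun he => hP ((card_eq_iff_eq_top P).1 he)
    exact h3.trans_lt h4
  have hCR : CR (P ⧸ N) := (ih (P ⧸ N) hna hlt).resolve_left hex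
  refine cr_of_sheet hG hs hidx hCR (QuotientGroup.mk' N) (QuotientGroup.mk'_surjective N) ?_
  intro x hx2 hx1
  have h3 : x ∈ N := (QuotientGroup.eq_one_iff x).1 hx1
  exact mem_subgroupOf.1 (h2 x h3 hx2)

/-- the index of `C(z)` is odd -/
theorem odd_index_of_sylow [Finite G] {z : G} (S : Sylow 2 G) (hS : ∀ x ∈ S, x * z = z * x) :
    ¬ 2 ∣ (centralizer ({z} : Set G)).index := by
  haveI : Fact (Nat.Prime 2) := ⟨Nat.prime_two⟩
  have h1 : (S : Subgroup G) ≤ centralizer ({z} : Set G) := fun x hx =>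
    mem_centralizer_singleton_iff.2 (hS x hx)
  intro h2
  exact (Sylow.not_dvd_index' S index_ne_zero_of_finite) (h2.trans (index_dvd_of_le h1))

/-- products of elements of `C(z) - P` lie in `P` if `|C(z) : P| ≤ 2` -/
theorem idx_of_rel {z : G} {P : Subgroup G}
    (hrel : P.relIndex (centralizer ({z} : Set G)) = 1 ∨ P.relIndex (centralizer ({z} : Set G)) = 2) :
    ∀ x y : G, x * z = z * x → y * z = z * y → x ∉ P → y ∉ P → x * y ∈ P := by
  intro x y hx hy hxP hyP
  have hx' := mem_centralizer_singleton_iff.2 hx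
  have hy' := mem_centralizer_singleton_iff.2 hy
  rcases hrel with hrel | hrel
  · exact absurd (relIndex_eq_one.1 hrel hx') hxP
  · have h2 := mul_mem_iff_of_index_two (H := P.subgroupOf (centralizer ({z} : Set G))) hrel
      (a := ⟨x, hx'⟩) (b := ⟨y, hy'⟩)
    have h3 : (⟨x, hx'⟩ * ⟨y, hy'⟩ : centralizer ({z} : Set G)) ∈ P.subgroupOf (centralizer ({z} : Set G)) := by
      rw [h2]
      exact ⟨fun h => absurd h hxP, fun h => absurd h hyP⟩
    exact h3

/-- **the row theorem** for the groups with a sheet of type (E), `P/R` quasisimple, `|P|` given -/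
theorem cr_row' [Finite G] (hG : commutator G = ⊤) {z : G} {P R : Subgroup G} (hs : Cor z P R)
    (hrel : P.relIndex (centralizer ({z} : Set G)) = 1 ∨ P.relIndex (centralizer ({z} : Set G)) = 2)
    (hq : ∀ N : Subgroup G, N ≤ P → R ≤ N → (∀ p ∈ P, ∀ n ∈ N, p * n * p⁻¹ ∈ N) → ⁅N, P⁆ ≤ R ∨ N = P)
    (ih : IndCR.{u} (Nat.card G)) {a M₀ : ℕ}
    (hcard : ∃ M, Odd M ∧ M ∣ M₀ ∧ Nat.card P = Nat.card R * (2 ^ a * M)) (hnum : NumOK a M₀) : CR G := by
  have hidx := idx_of_rel hrel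
  have hPt : P ≠ ⊤ := by
    rintro rfl
    obtain ⟨k, -, hkz⟩ := hs.out1
    apply hkz
    rw [hs.cen k (mem_top k), mul_inv_cancel_right]
  exact cr_of_sheet_quasi hG hs hidx hq hPt ih (a := a) (M₀ := M₀) hcard hnum

/-- **the row theorem** for the groups with a sheet of type (E), `P/R` quasisimple -/
theorem cr_row [Finite G] (hG : commutator G = ⊤) {z : G} {P R : Subgroup G} (hs : Cor z P R)
    {e : ℕ} (he : e = 0 ∨ e = 1) (hrel : P.relIndex (centralizer ({z} : Set G)) = 2 ^ e)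
    (hq : ∀ N : Subgroup G, N ≤ P → R ≤ N → (∀ p ∈ P, ∀ n ∈ N, p * n * p⁻¹ ∈ N) → ⁅N, P⁆ ≤ R ∨ N = P)
    (ih : IndCR.{u} (Nat.card G)) {n r a M₀ : ℕ} (hcG : Nat.card G = 2 ^ n * M₀) (hM : Odd M₀)
    (hcR : Nat.card R = 2 ^ r) (hn : n = e + r + a) (hnum : NumOK a M₀) : CR G := by
  have hPC : P ≤ centralizer ({z} : Set G) := fun x hx => mem_centralizer_singleton_iff.2 (hs.cen x hx)
  refine cr_row' hG hs ?_ hq ih (a := a) (M₀ := M₀) ?_ hnum
  · rcases he with rfl | rfl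
    · exact Or.inl hrel
    · exact Or.inr hrel
  obtain ⟨S, hzS, hzc, -⟩ := hs.syl
  have hodd := odd_index_of_sylow S hzc
  -- `|P|`
  have h1 : Nat.card P * (2 ^ e * (centralizer ({z} : Set G)).index) = 2 ^ n * M₀ := by
    rw [← hcG, ← P.card_mul_index, ← relIndex_mul_index hPC, hrel]
  obtain ⟨b, m, hm, hbm⟩ := Nat.exists_eq_two_pow_mul_odd (Nat.card_pos (α := P)).ne'
  have hodd' : Odd (centralizer ({z} : Set G)).index := Nat.odd_iff.2 (by omega)
  have h2 : 2 ^ (b + e) * (m * (centralizer ({z} : Set G)).index) = 2 ^ n * M₀ := by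
    rw [← h1, hbm, pow_add]; ring
  obtain ⟨h3, h4⟩ := two_pow_unique (hm.mul hodd') hM h2
  refine ⟨m, hm, ⟨_, h4.symm⟩, ?_⟩
  rw [hbm, hcR, ← mul_assoc, ← pow_add]
  congr 2
  omega

/-- normal subgroups of `P`: the form used in the rows -/
theorem quasi_of_le {P R N : Subgroup G} (hRn : ∀ x ∈ P, ∀ r ∈ R, x * r * x⁻¹ ∈ R) (h : N ≤ R ∨ N = P) :
    ⁅N, P⁆ ≤ R ∨ N = P := by
  rcases h with h | h
  · left
    rw [commutator_le]
    intro x hx y hy
    rw [commutatorElement_def]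
    have e : x * y * x⁻¹ * y⁻¹ = x * (y * x⁻¹ * y⁻¹) := by group
    rw [e]
    exact mul_mem (h hx) (hRn y hy _ (inv_mem (h hx)))
  · exact Or.inr h

end Cfsg.Agent.Foote
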