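import Cfsg.Agent.Foote.Transfer

/-!
# Foote's theorem, simple case: a local subgroup of odd index (helper29)

`full_of_local`: `H` of odd index in the perfect group `G`, `Q` a normal `2`-subgroup of `H` of class at most two,
`H` perfect, `H/Q` simple with `CR (H/Q)`, `Q/[Q,H]` cyclic; then strongly closed subgroups of class at least three are
Sylow subgroups.
-/

set_option autoImplicit false
set_option linter.style.haveILetI false

namespace Cfsg.Agent.Foote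

open Subgroup Cfsg.Agent.TwoFusion.ClosedFam

section Local

variable {X : Type*} [Group X] {𝒜 : Set X}

theorem isPGroup_zpowers_sup {N : Subgroup X} [N.Normal] (hN : IsPGroup 2 N) {a : X} (ha : TwoEl a) :
    IsPGroup 2 (zpowers a ⊔ N : Subgroup X) := ha.isPGroup.to_sup_of_normal_right hN

/-- products of elements of the family one of which lies in a normal `2`-subgroup -/
theorem mul_mem_normal (h : IsClosedFam 𝒜) {N : Subgroup X} [N.Normal] (hN : IsPGroup 2 N) {a n : X} (ha : a ∈ 𝒜)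
    (hn : n ∈ N) (hn' : n ∈ 𝒜) : a * n ∈ 𝒜 :=
  h.mul_mem _ (isPGroup_zpowers_sup hN (h.two a ha)) a (mem_sup_left (mem_zpowers a)) n (mem_sup_right hn) ha hn'

theorem comm_mem (h : IsClosedFam 𝒜) {N : Subgroup X} [hNn : N.Normal] (hN : IsPGroup 2 N) {a n : X} (ha : a ∈ 𝒜)
    (hn : n ∈ N) : a * n * a⁻¹ * n⁻¹ ∈ 𝒜 := by
  have h1 : n * a⁻¹ * n⁻¹ ∈ 𝒜 := h.conj_mem _ (h.inv_mem ha) n
  have h2 : n * a⁻¹ * n⁻¹ ∈ (zpowers a ⊔ N : Subgroup X) :=
    mul_mem (mul_mem (mem_sup_right hn) (inv_mem (mem_sup_left (mem_zpowers a)))) (inv_mem (mem_sup_right hn))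
  have e : a * n * a⁻¹ * n⁻¹ = a * (n * a⁻¹ * n⁻¹) := by group
  rw [e]
  exact h.mul_mem _ (isPGroup_zpowers_sup hN (h.two a ha)) a (mem_sup_left (mem_zpowers a)) _ h2 ha h1

theorem comm_mem_fam (h : IsClosedFam 𝒜) {N : Subgroup X} [hNn : N.Normal] (hN : IsPGroup 2 N) {a n : X}
    (ha : a ∈ 𝒜) (hn : n ∈ N) : a * n * a⁻¹ * n⁻¹ ∈ fam 𝒜 N := by
  refine mem_fam (comm_mem h hN ha hn) ?_
  exact mul_mem (hNn.conj_mem n hn a) (inv_mem hn)

/-- the elements centralising `N` modulo `B` -/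
def centMod (B N : Subgroup X) [B.Normal] : Subgroup X :=
  (centralizer ((N.map (QuotientGroup.mk' B) : Subgroup (X ⧸ B)) : Set (X ⧸ B))).comap (QuotientGroup.mk' B)

theorem mem_centMod {B N : Subgroup X} [hB : B.Normal] {x : X} :
    x ∈ centMod B N ↔ ∀ n ∈ N, x * n * x⁻¹ * n⁻¹ ∈ B := by
  unfold centMod
  rw [mem_comap, mem_centralizer_iff]
  constructor
  · intro h n hn
    have h1 := h (QuotientGroup.mk' B n) ⟨n, hn, rfl⟩
    rw [← map_mul, ← map_mul] at h1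
    rw [← QuotientGroup.eq_one_iff (N := B)]
    have h2 : (QuotientGroup.mk' B) (x * n * x⁻¹ * n⁻¹) = 1 := by
      have e : x * n * x⁻¹ * n⁻¹ = (x * n) * (n * x)⁻¹ := by group
      rw [e, map_mul, map_inv, h1, mul_inv_cancel]
    exact h2
  · rintro h _ ⟨n, hn, rfl⟩
    have h1 := h n hn
    rw [← QuotientGroup.eq_one_iff (N := B)] at h1
    have h2 : (QuotientGroup.mk' B) (x * n * x⁻¹ * n⁻¹) = 1 := h1
    have e : x * n * x⁻¹ * n⁻¹ = (x * n) * (n * x)⁻¹ := by group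
    rw [e, map_mul, map_inv, mul_inv_eq_one] at h2
    rw [← map_mul, ← map_mul]
    exact h2.symm

theorem centMod_normal (B N : Subgroup X) [hB : B.Normal] [hN : N.Normal] : (centMod B N).Normal := by
  refine ⟨fun x hx g => ?_⟩
  rw [mem_centMod] at hx ⊢
  intro n hn
  have h1 := hx (g⁻¹ * n * g) (by
    have := hN.conj_mem n hn g⁻¹
    simpa using this)
  have h2 := hB.conj_mem _ h1 g
  have e : g * (x * (g⁻¹ * n * g) * x⁻¹ * (g⁻¹ * n * g)⁻¹) * g⁻¹ = g * x * g⁻¹ * n * (g * x * g⁻¹)⁻¹ * n⁻¹ := by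
    group
  rwa [e] at h2

/-- `⟨𝒜⟩` centralises `N` modulo `𝒜 ∩ N` -/
theorem fam_top_le_centMod (h : IsClosedFam 𝒜) {N : Subgroup X} [hNn : N.Normal] (hN : IsPGroup 2 N) :
    haveI := h.fam_normal N
    fam 𝒜 ⊤ ≤ centMod (fam 𝒜 N) N := by
  haveI := h.fam_normal N
  rw [fam_le_iff]
  intro a ha _
  rw [mem_centMod]
  exact fun n hn => comm_mem_fam h hN ha hn

/-- a perfect group `X = ⟨𝒜⟩N` centralises `N` modulo `𝒜 ∩ N` -/
theorem comm_mem_of_perfect [Finite X] (h : IsClosedFam 𝒜) (hX : commutator X = ⊤) {N : Subgroup X} [hNn : N.Normal]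
    (hN : IsPGroup 2 N) (hgen : fam 𝒜 ⊤ ⊔ N = ⊤) : ∀ x : X, ∀ n ∈ N, x * n * x⁻¹ * n⁻¹ ∈ fam 𝒜 N := by
  haveI : Fact (Nat.Prime 2) := ⟨Nat.prime_two⟩
  haveI hB := h.fam_normal N
  haveI hC := centMod_normal (fam 𝒜 N) N
  set C := centMod (fam 𝒜 N) N with hCdef
  have h1 : fam 𝒜 ⊤ ≤ C := fam_top_le_centMod h hN
  have h2 : C ⊔ N = ⊤ := by
    rw [eq_top_iff, ← hgen]
    exact sup_le_sup_right h1 N
  -- `X/C` is a `2`-group
  have h3 : Function.Surjective ((QuotientGroup.mk' C).comp N.subtype) := by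
    intro y
    obtain ⟨x, rfl⟩ := QuotientGroup.mk'_surjective C y
    have hx : x ∈ C ⊔ N := by rw [h2]; exact mem_top _
    rw [mem_sup_of_normal_left] at hx
    obtain ⟨c, hc, n, hn, rfl⟩ := hx
    refine ⟨⟨n, hn⟩, ?_⟩
    show QuotientGroup.mk' C n = QuotientGroup.mk' C (c * n)
    rw [map_mul]
    have : QuotientGroup.mk' C c = 1 := (QuotientGroup.eq_one_iff c).2 hc
    rw [this, one_mul]
  have h4 : IsPGroup 2 (X ⧸ C) := hN.of_surjective _ h3
  have h5 : commutator (X ⧸ C) = ⊤ := by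
    have h6 : (⊤ : Subgroup X).map (QuotientGroup.mk' C) = ⊤ := by
      rw [← MonoidHom.range_eq_map]
      exact MonoidHom.range_eq_top.2 (QuotientGroup.mk'_surjective C)
    have h7 := Subgroup.map_commutator (⊤ : Subgroup X) ⊤ (QuotientGroup.mk' C)
    have h8 : ⁅(⊤ : Subgroup X), ⊤⁆ = ⊤ := hX
    rw [h8, h6] at h7
    exact h7.symm
  have h6 : Subsingleton (X ⧸ C) := by
    by_contra hns
    haveI : Nontrivial (X ⧸ C) := not_subsingleton_iff_nontrivial.1 hns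
    haveI : Group.IsNilpotent (X ⧸ C) := h4.isNilpotent
    have := Group.IsSolvable.commutator_lt_top_of_nontrivial (X ⧸ C)
    exact this.ne h5
  have h7 : C = ⊤ := by
    rw [eq_top_iff]
    intro x _
    rw [← QuotientGroup.eq_one_iff (N := C)]
    exact Subsingleton.elim _ _
  intro x
  have h8 : x ∈ C := by rw [h7]; exact mem_top _
  exact mem_centMod.1 h8

/-- the local lemma: `X` perfect, `X/N` simple with `CR`, `N` a `2`-group, `𝒜` not contained in `N` -/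
theorem local_all [Finite X] (h : IsClosedFam 𝒜) (hX : commutator X = ⊤) {N : Subgroup X} [hNn : N.Normal]
    (hN : IsPGroup 2 N) {L : Type*} [Group L] [IsSimpleGroup L] (hL : CR L) (f : X →* L)
    (hf : Function.Surjective f) (hker : f.ker = N) (hne : ∃ a ∈ 𝒜, a ∉ N) :
    (∀ x : X, ∀ n ∈ N, x * n * x⁻¹ * n⁻¹ ∈ 𝒜) ∧ ∀ x : X, TwoEl x → ∃ a ∈ 𝒜, ∃ n ∈ N, x = a * n := by
  obtain ⟨a₀, ha₀, ha₀N⟩ := hne
  have himg : Full (f '' 𝒜) := by
    rcases hL _ (h.image hf) with h1 | h1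
    · exfalso
      apply ha₀N
      rw [← hker, MonoidHom.mem_ker]
      exact h1 _ ⟨a₀, ha₀, rfl⟩
    · exact h1
  have hgen : fam 𝒜 ⊤ ⊔ N = ⊤ := by
    haveI : (fam 𝒜 (⊤ : Subgroup X)).Normal := h.fam_normal ⊤
    have hn : ((fam 𝒜 ⊤).map f).Normal := Subgroup.Normal.map inferInstance f hf
    have h1 : (fam 𝒜 ⊤).map f = ⊤ := by
      refine (IsSimpleGroup.eq_bot_or_eq_top_of_normal _ hn).resolve_left ?_
      intro hb
      apply ha₀N
      rw [← hker, MonoidHom.mem_ker]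
      have : f a₀ ∈ (fam 𝒜 ⊤).map f := ⟨a₀, mem_fam ha₀ (mem_top _), rfl⟩
      rw [hb] at this
      exact mem_bot.1 this
    have h2 := comap_map_eq f (fam 𝒜 ⊤)
    rw [h1, comap_top, hker] at h2
    exact h2.symm
  refine ⟨fun x n hn => ?_, fun x hx => ?_⟩
  · exact ((h.mem_fam_iff hN).1 (comm_mem_of_perfect h hX hN hgen x n hn)).1
  · obtain ⟨a, ha, hax⟩ := himg (f x) (hx.map f)
    refine ⟨a, ha, a⁻¹ * x, ?_, by group⟩
    rw [← hker, MonoidHom.mem_ker, map_mul, map_inv, hax, inv_mul_cancel]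

end Local

variable {G : Type*} [Group G]

/-- a normal `2`-subgroup of a subgroup of odd index lies in the Sylow subgroups contained in it -/
theorem le_sylow_of_normal {H Q : Subgroup G} (hQ2 : IsPGroup 2 Q) (hQn : H ≤ normalizer (Q : Set G))
    (S : Sylow 2 G) (hS : (S : Subgroup G) ≤ H) : Q ≤ S := by
  have h2 : IsPGroup 2 ((S : Subgroup G) ⊔ Q : Subgroup G) :=
    S.isPGroup'.to_sup_of_normal_right' hQ2 (hS.trans hQn)
  have h3 := S.is_maximal' h2 le_sup_left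
  exact (le_sup_right : Q ≤ (S : Subgroup G) ⊔ Q).trans h3.le

/-- the row lemma for `H = Q.L` of odd index -/
theorem full_of_local [Finite G] (hG : commutator G = ⊤) {H Q : Subgroup G} (hH : ¬ 2 ∣ H.index)
    (hQH : Q ≤ H) (hQn : H ≤ normalizer (Q : Set G)) (hQ2 : IsPGroup 2 Q) (hQc : Cls2 Q)
    (hHp : commutator H = ⊤) {L : Type*} [Group L] [IsSimpleGroup L] (hL : CR L) (f : H →* L)
    (hf : Function.Surjective f) (hker : f.ker = Q.subgroupOf H)
    (s : G) (hs : s ∈ Q) (hgen : ∀ q ∈ Q, ∃ m : ℤ, q * s ^ m ∈ ⁅H, Q⁆) : FRow G := by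
  intro 𝒜 h hd
  have hN : IsPGroup 2 (Q.subgroupOf H) := hQ2.comap_of_injective _ H.subtype_injective
  haveI hNn : (Q.subgroupOf H).Normal := (normal_subgroupOf_iff_le_normalizer hQH).2 hQn
  obtain ⟨a₀, ha₀, ha₀H, ha₀Q⟩ := hd.exists_mem hH hQc
  obtain ⟨h1, h2⟩ := local_all (h.restrict H) hHp hN hL f hf hker ⟨⟨a₀, ha₀H⟩, ha₀, by
    rw [mem_subgroupOf]; exact ha₀Q⟩
  have hcomm : ∀ x ∈ ⁅H, Q⁆, x ∈ 𝒜 := by
    have h3 : ⁅H, Q⁆ ≤ fam 𝒜 Q := by
      rw [commutator_le]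
      intro x hx q hq
      rw [h.mem_fam_iff hQ2]
      refine ⟨?_, mul_mem ((mem_normalizer_iff.1 (hQn hx) q).1 hq) (inv_mem hq)⟩
      exact h1 ⟨x, hx⟩ ⟨q, hQH hq⟩ (mem_subgroupOf.2 hq)
    exact fun x hx => ((h.mem_fam_iff hQ2).1 (h3 hx)).1
  have hcommQ : ⁅H, Q⁆ ≤ Q := by
    rw [commutator_le]
    exact fun x hx q hq => mul_mem ((mem_normalizer_iff.1 (hQn hx) q).1 hq) (inv_mem hq)
  obtain ⟨S, hS⟩ := exists_sylow_le hH
  have hQS := le_sylow_of_normal hQ2 hQn S hS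
  refine full_of_cyclic hG h S s (hQS hs) ?_
  intro x hx
  obtain ⟨a, ha, n, hn, hx'⟩ := h2 ⟨x, hS hx⟩ (twoEl_coe.1 (twoEl_of_mem S.2 hx))
  have hn' : (n : G) ∈ Q := mem_subgroupOf.1 hn
  obtain ⟨m, hm⟩ := hgen n hn'
  refine ⟨m, ?_⟩
  have e : x * s ^ m = a * (n * s ^ m) := by
    have := congrArg (fun t : H => (t : G)) hx'
    simp only [Subgroup.coe_mul] at this
    rw [this, mul_assoc]
  rw [e]
  have hb : (⟨n * s ^ m, hQH (hcommQ hm)⟩ : H) ∈ Q.subgroupOf H := mem_subgroupOf.2 (hcommQ hm)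
  exact mul_mem_normal (h.restrict H) hN ha hb (hcomm _ hm)

end Cfsg.Agent.Foote
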