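import Cfsg.Agent.Foote.Sheet

/-!
# Foote's theorem, simple case: one class of involutions (helper29)
-/

set_option autoImplicit false
set_option linter.style.haveILetI false

namespace Cfsg.Agent.Foote

open Subgroup Cfsg.Agent.TwoFusion.ClosedFam

variable {G : Type*} [Group G]

/-- a nontrivial closed family contains an involution -/
theorem exists_invol {𝒜 : Set G} (h : IsClosedFam 𝒜) (hne : ¬ Triv 𝒜) : ∃ y ∈ 𝒜, y ≠ 1 ∧ y * y = 1 := by
  obtain ⟨x, hx, hx1⟩ : ∃ x ∈ 𝒜, x ≠ 1 := by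
    by_contra hcon
    push Not at hcon
    exact hne hcon
  classical
  have hex : ∃ k, x ^ 2 ^ k = 1 := h.two x hx
  set m := Nat.find hex with hm
  have hm1 : x ^ 2 ^ m = 1 := Nat.find_spec hex
  have hm0 : m ≠ 0 := by
    intro h0
    rw [h0, pow_zero, pow_one] at hm1
    exact hx1 hm1
  obtain ⟨j, hj⟩ : ∃ j, m = j + 1 := ⟨m - 1, by omega⟩
  refine ⟨x ^ 2 ^ j, h.pow_mem hx _, ?_, ?_⟩
  · exact Nat.find_min hex (by omega)
  · rw [← pow_add]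
    have : 2 ^ j + 2 ^ j = 2 ^ m := by rw [hj, pow_succ]; ring
    rw [this, hm1]

/-- all the involutions are in the family if there is only one class -/
theorem invol_mem (hinv : ∀ x y : G, x * x = 1 → x ≠ 1 → y * y = 1 → y ≠ 1 → ∃ g : G, g * x * g⁻¹ = y)
    {𝒜 : Set G} (h : IsClosedFam 𝒜) (hne : ¬ Triv 𝒜) (y : G) (hy : y * y = 1) : y ∈ 𝒜 := by
  by_cases hy1 : y = 1
  · rw [hy1]; exact h.one_mem
  obtain ⟨x, hx, hx1, hxx⟩ := exists_invol h hne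
  obtain ⟨g, hg⟩ := hinv x y hxx hx1 hy hy1
  rw [← hg]
  exact h.conj_mem x hx g

/-- one class of involutions, and the members of every nontrivial family generate a Sylow subgroup -/
theorem cr_of_inv [Finite G]
    (hinv : ∀ x y : G, x * x = 1 → x ≠ 1 → y * y = 1 → y ≠ 1 → ∃ g : G, g * x * g⁻¹ = y)
    (S : Sylow 2 G) (hS : ∀ A : Subgroup G, (∀ x ∈ S, x * x = 1 → x ∈ A) → (S : Subgroup G) ≤ A) : CR G := by
  intro 𝒜 h
  by_cases ht : Triv 𝒜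
  · exact Or.inl ht
  right
  refine full_of_sylow h S fun x hx => ?_
  have h1 := hS (fam 𝒜 (S : Subgroup G)) fun y hy hyy => mem_fam (invol_mem hinv h ht y hyy) hy
  exact ((h.mem_fam_iff S.2).1 (h1 hx)).1

/-- the 2-elements of `H = K L`, `K` a normal 2-subgroup of `H`, `K ∩ L = 1` -/
theorem mem_of_split {𝒜 : Set G} (h : IsClosedFam 𝒜) {H K L : Subgroup G} (hKH : K ≤ H) (hLH : L ≤ H)
    (hKn : ∀ g ∈ H, ∀ k ∈ K, g * k * g⁻¹ ∈ K) (hK2 : IsPGroup 2 K) (hd : ∀ x ∈ K, x ∈ L → x = 1)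
    (hKL : ∀ x ∈ H, ∃ k ∈ K, ∃ l ∈ L, x = k * l) (hK : ∀ x ∈ K, x ∈ 𝒜) (hL : ∀ x ∈ L, TwoEl x → x ∈ 𝒜) :
    ∀ x ∈ H, TwoEl x → x ∈ 𝒜 := by
  intro x hx hx2
  obtain ⟨k, hk, l, hl, rfl⟩ := hKL x hx
  haveI hN : (K.subgroupOf H).Normal := ⟨fun n hn g => by
    rw [mem_subgroupOf] at hn ⊢
    simpa using hKn g g.2 n hn⟩
  have hN2 : IsPGroup 2 (K.subgroupOf H) := hK2.comap_of_injective _ H.subtype_injective
  have hl2 : TwoEl l := by
    obtain ⟨n, hn⟩ := hx2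
    refine ⟨n, hd _ ?_ (pow_mem hl _)⟩
    have h1 : (QuotientGroup.mk' (K.subgroupOf H)) (⟨l, hLH hl⟩ ^ 2 ^ n) = 1 := by
      have e : (QuotientGroup.mk' (K.subgroupOf H)) ⟨l, hLH hl⟩ =
          (QuotientGroup.mk' (K.subgroupOf H)) ⟨k * l, hx⟩ := by
        have e1 : (⟨k * l, hx⟩ : H) = ⟨k, hKH hk⟩ * ⟨l, hLH hl⟩ := rfl
        have e2 : (QuotientGroup.mk' (K.subgroupOf H)) ⟨k, hKH hk⟩ = 1 :=
          (QuotientGroup.eq_one_iff _).2 (mem_subgroupOf.2 hk)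
        rw [e1, map_mul, e2, one_mul]
      rw [map_pow, e, ← map_pow]
      have e3 : (⟨k * l, hx⟩ : H) ^ 2 ^ n = 1 := Subtype.ext (by simpa using hn)
      rw [e3, map_one]
    exact mem_subgroupOf.1 ((QuotientGroup.eq_one_iff _).1 h1)
  have h1 : l⁻¹ * k * l ∈ K := by
    have := hKn l⁻¹ (inv_mem (hLH hl)) k hk
    simpa using this
  have h2 := mul_mem_normal (h.restrict H) hN2 (a := ⟨l, hLH hl⟩) (n := ⟨l⁻¹ * k * l, hKH h1⟩) (hL l hl hl2)
    (mem_subgroupOf.2 h1) (hK _ h1)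
  have h3 : l * (l⁻¹ * k * l) ∈ 𝒜 := h2
  have e : l * (l⁻¹ * k * l) = k * l := by group
  rwa [e] at h3

/-- transfer: the Sylow subgroup is generated modulo the strongly closed subgroup by powers of one element -/
theorem full_of_gen [Finite G] (hG : commutator G = ⊤) {𝒜 : Set G} (h : IsClosedFam 𝒜) (S : Sylow 2 G) {X : Set G}
    (hS : (S : Subgroup G) = closure X) {s : G} (hs : s ∈ S) (hX : ∀ x ∈ X, ∃ n : ℤ, x * s ^ n ∈ 𝒜) : Full 𝒜 := by
  have hmem : ∀ {x}, x ∈ fam 𝒜 (S : Subgroup G) ↔ x ∈ 𝒜 ∧ x ∈ S := h.mem_fam_iff S.2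
  have hsz : ∀ n : ℤ, s ^ n ∈ (S : Subgroup G) := fun n => zpow_mem hs n
  have hn : ∀ g ∈ (S : Subgroup G), ∀ a ∈ fam 𝒜 (S : Subgroup G), g * a * g⁻¹ ∈ fam 𝒜 (S : Subgroup G) :=
    fun g hg a ha => h.conj_mem_fam (fun y hy => mul_mem (mul_mem hg hy) (inv_mem hg)) ha
  -- the elements of `S` which are in `A⟨s⟩`
  let B : Subgroup G :=
    { carrier := {x | x ∈ (S : Subgroup G) ∧ ∃ n : ℤ, x * s ^ n ∈ fam 𝒜 (S : Subgroup G)}
      one_mem' := ⟨one_mem _, 0, by rw [zpow_zero, mul_one]; exact one_mem _⟩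
      mul_mem' := by
        rintro x y ⟨hx, n, hxn⟩ ⟨hy, m, hym⟩
        refine ⟨mul_mem hx hy, m + n, ?_⟩
        have h1 := mul_mem hxn (hn _ (inv_mem (hsz n)) _ hym)
        have e : x * s ^ n * ((s ^ n)⁻¹ * (y * s ^ m) * (s ^ n)⁻¹⁻¹) = x * y * s ^ (m + n) := by
          rw [zpow_add]; group
        rwa [e] at h1
      inv_mem' := by
        rintro x ⟨hx, n, hxn⟩
        refine ⟨inv_mem hx, -n, ?_⟩
        have h1 := hn _ (hsz n) _ (inv_mem hxn)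
        have e : s ^ n * (x * s ^ n)⁻¹ * (s ^ n)⁻¹ = x⁻¹ * s ^ (-n) := by
          rw [zpow_neg]; group
        rwa [e] at h1 }
  have hB : (S : Subgroup G) ≤ B := by
    rw [hS, closure_le]
    intro x hx
    have hxS : x ∈ (S : Subgroup G) := by rw [hS]; exact subset_closure hx
    obtain ⟨n, hn'⟩ := hX x hx
    exact ⟨hxS, n, mem_fam hn' (mul_mem hxS (hsz n))⟩
  refine full_of_cyclic hG h S s hs fun x hx => ?_
  obtain ⟨-, n, hn'⟩ := hB hx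
  exact ⟨n, (hmem.1 hn').1⟩

end Cfsg.Agent.Foote
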