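import Cfsg.Agent.Foote.Local
import Cfsg.Agent.OddHalf.D8.Sheet
import Cfsg.Agent.Lib.NormalAbelian

/-!
# Foote's theorem, simple case: the sporadic groups of type (E) (helper29)

`cr_of_sheet`: a perfect group with a sheet `SheetE z P R` (J2 J3 Suz Co1 Co2 Th B M J4 HN Fi24') has the property
`CR`, provided `P/R` (modulo an odd kernel) has it and `|C(z) : P| ≤ 2`.
-/

set_option autoImplicit false
set_option linter.style.haveILetI false

namespace Cfsg.Agent.Foote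

open Subgroup Cfsg.Agent.TwoFusion.ClosedFam Cfsg.Agent.OddHalf.D8.Sheet

variable {G : Type*} [Group G]

/-- a nontrivial closed family contains an involution of the centre of the Sylow subgroup -/
theorem exists_central [Finite G] {𝒜 : Set G} (h : IsClosedFam 𝒜) (hne : ¬ Triv 𝒜) (S : Sylow 2 G) :
    ∃ y ∈ 𝒜, y ≠ 1 ∧ y * y = 1 ∧ y ∈ S ∧ ∀ x ∈ S, x * y = y * x := by
  haveI : Fact (Nat.Prime 2) := ⟨Nat.prime_two⟩
  obtain ⟨x₀, hx₀, hx₀1⟩ : ∃ x ∈ 𝒜, x ≠ 1 := by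
    by_contra hcon
    push Not at hcon
    exact hne hcon
  obtain ⟨g, hg⟩ := TwoEl.exists_conj_mem (h.two x₀ hx₀) S
  set A : Subgroup (S : Subgroup G) := (fam 𝒜 (S : Subgroup G)).subgroupOf (S : Subgroup G) with hA
  haveI hAn : A.Normal :=
    (normal_subgroupOf_iff_le_normalizer (fam_le _ _)).2 (h.le_normalizer_fam _)
  have hAne : Nontrivial A := by
    refine ⟨⟨⟨⟨g * x₀ * g⁻¹, hg⟩, ?_⟩, 1, ?_⟩⟩
    · rw [hA, mem_subgroupOf]
      exact mem_fam (h.conj_mem _ hx₀ g) hg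
    · intro he
      have h1 := congrArg (fun t : A => ((t : (S : Subgroup G)) : G)) he
      simp only [OneMemClass.coe_one] at h1
      apply hx₀1
      have : x₀ = g⁻¹ * (g * x₀ * g⁻¹) * g := by group
      rw [this, h1]; group
  have hAS : IsPGroup 2 (S : Subgroup G) := S.2
  haveI : Group.IsNilpotent (S : Subgroup G) := hAS.isNilpotent
  have h1 : (A ⊓ center (S : Subgroup G)) ≠ ⊥ :=
    Cfsg.Agent.Lib.NormalAbelian.normal_inf_center_ne_bot A ((nontrivial_iff_ne_bot A).1 hAne)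
  obtain ⟨b, hb, hb1⟩ := (bot_or_exists_ne_one _).resolve_left h1
  rw [mem_inf] at hb
  have hbA : (b : G) ∈ 𝒜 := ((h.mem_fam_iff S.2).1 (mem_subgroupOf.1 hb.1)).1
  have hbC : ∀ x ∈ S, x * (b : G) = b * x := fun x hx =>
    congrArg (fun t : (S : Subgroup G) => (t : G)) (mem_center_iff.1 hb.2 ⟨x, hx⟩)
  obtain ⟨k, hk⟩ := h.two _ hbA
  have hb1' : (b : G) ≠ 1 := fun hh => hb1 (Subtype.ext hh)
  -- the involution in `⟨b⟩`
  classical
  have hex : ∃ k, (b : G) ^ 2 ^ k = 1 := ⟨k, hk⟩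
  set m := Nat.find hex with hm
  have hm1 : (b : G) ^ 2 ^ m = 1 := Nat.find_spec hex
  have hm0 : m ≠ 0 := by
    intro h0
    rw [h0, pow_zero, pow_one] at hm1
    exact hb1' hm1
  obtain ⟨j, hj⟩ : ∃ j, m = j + 1 := ⟨m - 1, by omega⟩
  refine ⟨(b : G) ^ 2 ^ j, h.pow_mem hbA _, ?_, ?_, pow_mem b.2 _, ?_⟩
  · exact Nat.find_min hex (by omega)
  · rw [← pow_add]
    have : 2 ^ j + 2 ^ j = 2 ^ m := by rw [hj, pow_succ]; ring
    rw [this, hm1]
  · intro x hx
    exact (Commute.pow_right (hbC x hx) _)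

/-- the facts on `z`, `P`, `R` used here: `Z(S) = ⟨z⟩`, `P ≤ C(z)` perfect, `R = O₂(P)`, `R/⟨z⟩` irreducible -/
structure Cor (z : G) (P R : Subgroup G) : Prop where
  zz : z * z = 1
  z1 : z ≠ 1
  syl : ∃ S : Sylow 2 G, z ∈ S ∧ (∀ x ∈ S, x * z = z * x) ∧
    ∀ y ∈ S, (∀ x ∈ S, x * y = y * x) → y = 1 ∨ y = z
  cen : ∀ x ∈ P, x * z = z * x
  perf : ⁅P, P⁆ = P
  zR : z ∈ R
  RP : R ≤ P
  R2 : IsPGroup 2 R
  Rn : ∀ x ∈ P, ∀ r ∈ R, x * r * x⁻¹ ∈ R
  Rmax : ∀ B : Subgroup G, B ≤ P → IsPGroup 2 B → (∀ x ∈ P, ∀ b ∈ B, x * b * x⁻¹ ∈ B) → B ≤ R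
  Rmin : ∀ B : Subgroup G, B ≤ R → (∀ x ∈ P, ∀ b ∈ B, x * b * x⁻¹ ∈ B) →
    (∀ b ∈ B, b = 1 ∨ b = z) ∨ B = R
  cR : ∀ x ∈ P, (∀ r ∈ R, x * r = r * x) → x ∈ R
  out1 : ∃ k : G, k * z * k⁻¹ ∈ P ∧ k * z * k⁻¹ ≠ z
  out2 : ∃ k : G, ∃ r ∈ R, k * r * k⁻¹ ∈ P ∧ k * r * k⁻¹ ∉ R

theorem Cor.of_sheetE {z : G} {P R : Subgroup G} (hs : SheetE z P R) : Cor z P R where
  zz := hs.zz
  z1 := hs.z1
  syl := hs.syl
  cen := hs.cen
  perf := hs.perf
  zR := hs.zR
  RP := hs.RP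
  R2 := hs.R2
  Rn := hs.Rn
  Rmax := hs.Rmax
  Rmin := hs.Rmin
  cR := hs.cR
  out1 := by
    obtain ⟨k, hkP, hkR, -⟩ := hs.ytrick
    exact ⟨k, hkP, fun h1 => hkR (by rw [h1]; exact hs.zR)⟩
  out2 := by
    obtain ⟨k, hkP, hkR, -⟩ := hs.ytrick
    exact ⟨k, z, hs.zR, hkP, hkR⟩

/-- the sheet theorem with a hypothesis on the closed families containing `R` -/
theorem cr_of_sheet' [Finite G] (hG : commutator G = ⊤) {z : G} {P R : Subgroup G} (hs : Cor z P R)
    (hidx : ∀ x y : G, x * z = z * x → y * z = z * y → x ∉ P → y ∉ P → x * y ∈ P)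
    (hP : ∀ 𝒜 : Set G, IsClosedFam 𝒜 → (∀ r ∈ R, r ∈ 𝒜) → (∃ x ∈ 𝒜, x ∈ P ∧ x ∉ R) →
      ∀ x ∈ P, TwoEl x → x ∈ 𝒜) : CR G := by
  intro 𝒜 h
  by_cases ht : Triv 𝒜
  · exact Or.inl ht
  right
  obtain ⟨S, hzS, hzc, hZ⟩ := hs.syl
  obtain ⟨y, hy, hy1, -, hyS, hyc⟩ := exists_central h ht S
  have hz : z ∈ 𝒜 := by
    rcases hZ y hyS hyc with h1 | h1
    · exact absurd h1 hy1
    · rwa [← h1]
  obtain ⟨k, hkP, hkz⟩ := hs.out1
  have hz1 : k * z * k⁻¹ ∈ 𝒜 := h.conj_mem z hz k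
  have hRP := hs.RP
  haveI hNn : (R.subgroupOf P).Normal := ⟨fun n hn g => by
    rw [mem_subgroupOf] at hn ⊢
    simpa using hs.Rn g g.2 n hn⟩
  have hN2 : IsPGroup 2 (R.subgroupOf P) := hs.R2.comap_of_injective _ P.subtype_injective
  have hcomm : ∀ a ∈ 𝒜, a ∈ P → ∀ r ∈ R, a * r * a⁻¹ * r⁻¹ ∈ 𝒜 := fun a ha haP r hr =>
    comm_mem (h.restrict P) hN2 (a := ⟨a, haP⟩) (n := ⟨r, hRP hr⟩) ha (mem_subgroupOf.2 hr)
  -- `R ≤ 𝒜`
  have hR : ∀ r ∈ R, r ∈ 𝒜 := by
    rcases hs.Rmin (fam 𝒜 R) (fam_le _ _) (fun x hx b hb => h.conj_mem_fam (fun y hy => hs.Rn x hx y hy) hb)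
      with h1 | h1
    · exfalso
      have hzn : ((zpowers z).subgroupOf P).Normal := ⟨fun n hn g => by
        rw [mem_subgroupOf] at hn ⊢
        obtain ⟨i, hi⟩ := mem_zpowers_iff.1 hn
        have e : (g : G) * n * (g : G)⁻¹ = n := by
          have hc : Commute (g : G) (n : G) := by
            rw [← hi]
            exact Commute.zpow_right (hs.cen g g.2) i
          rw [hc.eq, mul_inv_cancel_right]
        simpa [e] using hn⟩
      set C : Subgroup P := centMod ((zpowers z).subgroupOf P) (R.subgroupOf P) with hC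
      haveI hCn : C.Normal := centMod_normal _ _
      have hzz : ∀ x ∈ zpowers z, x = 1 ∨ x = z := by
        intro x hx
        obtain ⟨i, rfl⟩ := mem_zpowers_iff.1 hx
        rcases Int.even_or_odd' i with ⟨c, rfl | rfl⟩
        · left
          rw [zpow_mul, zpow_two, hs.zz, one_zpow]
        · right
          rw [zpow_add, zpow_mul, zpow_two, hs.zz, one_zpow, one_mul, zpow_one]
      have hCmem : ∀ x ∈ C, ∀ r ∈ R, (x : G) * r * (x : G)⁻¹ * r⁻¹ = 1 ∨ (x : G) * r * (x : G)⁻¹ * r⁻¹ = z := by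
        intro x hx r hr
        have h2 := mem_centMod.1 hx ⟨r, hRP hr⟩ (mem_subgroupOf.2 hr)
        rw [mem_subgroupOf] at h2
        exact hzz _ (by simpa using h2)
      have hC2 : IsPGroup 2 C := by
        rintro ⟨x, hx⟩
        obtain ⟨a, m, hm, ham⟩ := Nat.exists_eq_two_pow_mul_odd (orderOf_pos x).ne'
        refine ⟨a, Subtype.ext ?_⟩
        show x ^ 2 ^ a = 1
        set w : P := x ^ 2 ^ a with hw
        have hwm : w ^ m = 1 := by rw [hw, ← pow_mul, ← ham, pow_orderOf_eq_one]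
        have hwC : w ∈ C := pow_mem hx _
        have hw2 : ∀ r ∈ R, (w : G) * (w : G) * r = r * ((w : G) * (w : G)) := by
          intro r hr
          have hwz : (w : G) * z = z * w := hs.cen w w.2
          rcases hCmem w hwC r hr with h2 | h2
          · have h3 : (w : G) * r = r * w := by
              have := mul_inv_eq_one.1 h2
              rw [mul_inv_eq_iff_eq_mul] at this
              exact this
            calc (w : G) * (w : G) * r = w * (w * r) := by group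
              _ = w * (r * w) := by rw [h3]
              _ = (w * r) * w := by group
              _ = r * w * w := by rw [h3]
              _ = _ := by group
          · have h3 : (w : G) * r = z * r * w := by
              rw [mul_inv_eq_iff_eq_mul, mul_inv_eq_iff_eq_mul] at h2
              exact h2
            calc (w : G) * (w : G) * r = w * (w * r) := by group
              _ = (w * z) * r * w := by rw [h3]; group
              _ = z * (w * r) * w := by rw [hwz]; group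
              _ = (z * z) * r * (w * w) := by rw [h3]; group
              _ = r * (w * w) := by rw [hs.zz, one_mul]
        obtain ⟨c, hc⟩ := hm
        have hww : (w * w) ^ (c + 1) = w := by
          rw [← pow_two, ← pow_mul]
          have : 2 * (c + 1) = m + 1 := by omega
          rw [this, pow_succ, hwm, one_mul]
        have hwR : (w : G) ∈ R := by
          refine hs.cR w w.2 fun r hr => ?_
          have h4 : Commute ((w : G) * (w : G)) r := hw2 r hr
          have h5 := h4.pow_left (c + 1)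
          have h6 : ((w : G) * (w : G)) ^ (c + 1) = w := by
            have := congrArg (fun t : P => (t : G)) hww
            simpa using this
          rw [h6] at h5
          exact h5
        obtain ⟨b, hb⟩ := hs.R2 ⟨(w : G), hwR⟩
        have hb' : w ^ 2 ^ b = 1 := Subtype.ext (by
          have := congrArg Subtype.val hb
          simpa using this)
        have d1 := orderOf_dvd_of_pow_eq_one hb'
        have d2 := orderOf_dvd_of_pow_eq_one hwm
        have hcop : Nat.Coprime (2 ^ b) m := Nat.Coprime.pow_left b (Nat.coprime_two_left.2 ⟨c, hc⟩)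
        exact orderOf_eq_one_iff.1 (Nat.eq_one_of_dvd_coprimes hcop d1 d2)
      have hCR : C.map P.subtype ≤ R := by
        refine hs.Rmax _ (map_subtype_le _) (hC2.map _) ?_
        rintro x hx _ ⟨b, hb, rfl⟩
        exact ⟨⟨x, hx⟩ * b * ⟨x, hx⟩⁻¹, hCn.conj_mem b hb _, rfl⟩
      have hkR : k * z * k⁻¹ ∉ R := by
        intro hkR
        rcases h1 _ (mem_fam hz1 hkR) with h2 | h2
        · apply hs.z1
          calc z = k⁻¹ * (k * z * k⁻¹) * k := by group
            _ = 1 := by rw [h2]; group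
        · exact hkz h2
      refine hkR (hCR ⟨⟨_, hkP⟩, ?_, rfl⟩)
      refine mem_centMod.2 ?_
      intro n hn
      rw [mem_subgroupOf] at hn ⊢
      have h2 := hcomm _ hz1 hkP n hn
      have h3 : k * z * k⁻¹ * n * (k * z * k⁻¹)⁻¹ * (n : G)⁻¹ ∈ R :=
        mul_mem (hs.Rn _ hkP _ hn) (inv_mem hn)
      rcases h1 _ (mem_fam h2 h3) with h4 | h4
      · have e : (((⟨k * z * k⁻¹, hkP⟩ : P) * n * (⟨k * z * k⁻¹, hkP⟩ : P)⁻¹ * n⁻¹ : P) : G) = 1 := by
          simpa using h4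
        rw [e]; exact one_mem _
      · have e : (((⟨k * z * k⁻¹, hkP⟩ : P) * n * (⟨k * z * k⁻¹, hkP⟩ : P)⁻¹ * n⁻¹ : P) : G) = z := by
          simpa using h4
        rw [e]; exact mem_zpowers z
    · intro r hr
      rw [← h1] at hr
      exact ((h.mem_fam_iff hs.R2).1 hr).1
  obtain ⟨k', r', hr', hkr, hkr'⟩ := hs.out2
  have hPall := hP 𝒜 h hR ⟨_, h.conj_mem r' (hR r' hr') k', hkr, hkr'⟩
  by_cases hSP : (S : Subgroup G) ≤ P
  · exact full_of_sylow h S fun x hx => hPall x (hSP hx) (twoEl_of_mem S.2 hx)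
  · obtain ⟨s, hsS, hsP⟩ := SetLike.not_le_iff_exists.1 hSP
    refine full_of_cyclic hG h S s hsS fun x hx => ?_
    by_cases hxP : x ∈ P
    · exact ⟨0, by rw [zpow_zero, mul_one]; exact hPall x hxP (twoEl_of_mem S.2 hx)⟩
    · refine ⟨1, ?_⟩
      rw [zpow_one]
      exact hPall _ (hidx x s (hzc x hx) (hzc s hsS) hxP hsP) (twoEl_of_mem S.2 (mul_mem hx hsS))

/-- a closed family containing `R`, whose image in a quotient `L` of `P` (the 2-elements of the kernel in `R`) is full,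
contains all the `2`-elements of `P` -/
theorem full_on_of_image [Finite G] {P R : Subgroup G} {L : Type*} [Group L]
    (f : P →* L) (hf : Function.Surjective f)
    (hodd : ∀ x : P, TwoEl x → f x = 1 → (x : G) ∈ R) {𝒜 : Set G} (h : IsClosedFam 𝒜)
    (hR : ∀ r ∈ R, r ∈ 𝒜) (himg : Full (f '' {x : P | (x : G) ∈ 𝒜})) : ∀ x ∈ P, TwoEl x → x ∈ 𝒜 := by
  have hr := h.restrict P
  intro x hxP hx
  have hx' : TwoEl (⟨x, hxP⟩ : P) := twoEl_coe.1 hx
  obtain ⟨a, ha, hax⟩ := himg (f ⟨x, hxP⟩) (hx'.map f)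
  obtain ⟨Q, hQ, _, hlift⟩ := exists_lift hf (zpowers (f ⟨x, hxP⟩)) (hx'.map f).isPGroup
  obtain ⟨n, hn, hnx⟩ := hlift ⟨x, hxP⟩ hx'.isPGroup (mem_zpowers _)
  obtain ⟨m, hm, hma⟩ := hlift a (hr.isPGroup_zpowers ha) (by rw [hax]; exact mem_zpowers _)
  rw [MonoidHom.mem_ker] at hn hm
  set x' : P := n * ⟨x, hxP⟩ * n⁻¹ with hx'def
  set a' : P := m * a * m⁻¹ with ha'def
  have e1 : f x' = f a' := by rw [hx'def, ha'def]; simp [hn, hm, hax]
  have hk : f (a'⁻¹ * x') = 1 := by rw [map_mul, map_inv, e1, inv_mul_cancel]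
  have hq : a'⁻¹ * x' ∈ Q := mul_mem (inv_mem hma) hnx
  have h1 : ((a'⁻¹ * x' : P) : G) ∈ R := hodd _ (twoEl_of_mem hQ hq) hk
  have h2 : (a'⁻¹ * x' : P) ∈ {x : P | (x : G) ∈ 𝒜} := hR _ h1
  have h3 : a' * (a'⁻¹ * x') ∈ {x : P | (x : G) ∈ 𝒜} :=
    hr.mul_mem Q hQ a' hma _ hq (hr.conj_mem a ha m) h2
  have e2 : a' * (a'⁻¹ * x') = x' := by group
  rw [e2] at h3
  exact (hr.conj_mem_iff n).1 h3

/-- a closed family containing `R`, not contained in `R`, contains all the `2`-elements of `P` if `P/R` has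
(modulo an odd kernel) the property `CR` -/
theorem full_on_of_hom [Finite G] {P R : Subgroup G} {L : Type*} [Group L] (hL : CR L)
    (f : P →* L) (hf : Function.Surjective f)
    (hodd : ∀ x : P, TwoEl x → f x = 1 → (x : G) ∈ R) {𝒜 : Set G} (h : IsClosedFam 𝒜)
    (hR : ∀ r ∈ R, r ∈ 𝒜) (hne : ∃ x ∈ 𝒜, x ∈ P ∧ x ∉ R) : ∀ x ∈ P, TwoEl x → x ∈ 𝒜 := by
  obtain ⟨a₀, ha₀, ha₀P, ha₀R⟩ := hne
  have hr := h.restrict P
  have himg : Full (f '' {x : P | (x : G) ∈ 𝒜}) := by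
    rcases hL _ (hr.image hf) with h1 | h1
    · exact absurd (hodd ⟨a₀, ha₀P⟩ (hr.two _ ha₀) (h1 _ ⟨⟨a₀, ha₀P⟩, ha₀, rfl⟩)) ha₀R
    · exact h1
  exact full_on_of_image f hf hodd h hR himg

/-- the sheet theorem -/
theorem cr_of_sheet [Finite G] (hG : commutator G = ⊤) {z : G} {P R : Subgroup G} (hs : Cor z P R)
    (hidx : ∀ x y : G, x * z = z * x → y * z = z * y → x ∉ P → y ∉ P → x * y ∈ P)
    {L : Type*} [Group L] (hL : CR L) (f : P →* L) (hf : Function.Surjective f)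
    (hodd : ∀ x : P, TwoEl x → f x = 1 → (x : G) ∈ R) : CR G :=
  cr_of_sheet' hG hs hidx fun _ h hR hne => full_on_of_hom hL f hf hodd h hR hne

end Cfsg.Agent.Foote
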