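import Cfsg.Agent.Foote.Sheet
import Cfsg.Agent.SporadicRecognition.HeldCard
import Cfsg.Agent.S0249
import Cfsg.Agent.Foote.Bridge
import Cfsg.Agent.KFacts.TwoSix.Aut
import Cfsg.Agent.KFacts.TwoSix.OfSt
import Cfsg.Agent.SporadicRecognition.HeldFusion

-- merged: Cfsg.Agent.Foote.LThreeTwo
section

/-!
# Foote's theorem, simple case: the group `L₃(2)` (helper62)

`cr : CR (SL(3, 2))`, `simple : IsSimpleGroup (SL(3, 2))`.
-/

set_option autoImplicit false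
set_option linter.style.haveILetI false

namespace Cfsg.Agent.Foote.LThreeTwo

open Matrix Subgroup Cfsg.Agent.TwoFusion.ClosedFam Cfsg.Agent.SporadicRecognition.HeldModel

/-- the unitriangular matrix with entries `p, q, r` -/
def um (p q r : ZMod 2) : L3 := ⟨!![1, p, q; 0, 1, r; 0, 0, 1], by revert p q r; decide⟩

theorem um_mul (p q r p' q' r' : ZMod 2) :
    um p q r * um p' q' r' = um (p + p') (q' + p * r' + q) (r + r') := by
  revert p q r p' q' r'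
  decide +kernel

theorem um_inj {p q r p' q' r' : ZMod 2} (h : um p q r = um p' q' r') : p = p' ∧ q = q' ∧ r = r' := by
  have h1 : ∀ i j : Fin 3, (um p q r : Matrix (Fin 3) (Fin 3) (ZMod 2)) i j = um p' q' r' i j := fun i j => by rw [h]
  exact ⟨h1 0 1, h1 0 2, h1 1 2⟩

/-- the unitriangular group -/
def U3 : Subgroup L3 where
  carrier := {g | ∃ p q r, g = um p q r}
  one_mem' := ⟨0, 0, 0, by decide +kernel⟩
  mul_mem' := by
    rintro _ _ ⟨p, q, r, rfl⟩ ⟨p', q', r', rfl⟩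
    exact ⟨_, _, _, um_mul _ _ _ _ _ _⟩
  inv_mem' := by
    rintro _ ⟨p, q, r, rfl⟩
    refine ⟨p, p * r + q, r, ?_⟩
    rw [inv_eq_iff_mul_eq_one, um_mul]
    revert p q r
    decide +kernel

theorem card_U3 : Nat.card U3 = 8 := by
  let e : ZMod 2 × ZMod 2 × ZMod 2 → U3 := fun t => ⟨um t.1 t.2.1 t.2.2, ⟨_, _, _, rfl⟩⟩
  have he : Function.Bijective e := by
    constructor
    · rintro ⟨p, q, r⟩ ⟨p', q', r'⟩ h
      obtain ⟨h1, h2, h3⟩ := um_inj (congrArg Subtype.val h)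
      simp only at h1 h2 h3
      rw [h1, h2, h3]
    · rintro ⟨_, p, q, r, rfl⟩
      exact ⟨⟨p, q, r⟩, rfl⟩
  rw [← Nat.card_congr (Equiv.ofBijective e he), Nat.card_eq_fintype_card]
  decide

theorem exists_sylow : ∃ S : Sylow 2 L3, (S : Subgroup L3) = U3 := by
  haveI : Fact (Nat.Prime 2) := ⟨Nat.prime_two⟩
  have h1 : IsPGroup 2 U3 := IsPGroup.of_card (n := 3) (by rw [card_U3]; norm_num)
  obtain ⟨S, hS⟩ := h1.exists_le_sylow
  refine ⟨S, (eq_of_le_of_card_ge hS ?_).symm⟩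
  rw [card_U3]
  obtain ⟨k, hk⟩ := IsPGroup.iff_card.1 S.2
  have h2 : Nat.card S ∣ 168 := by rw [← card_L3]; exact Subgroup.card_subgroup_dvd_card _
  rw [hk] at h2 ⊢
  have h3 : k ≤ 3 := by
    by_contra hcon
    have h4 : 2 ^ 4 ∣ 2 ^ k := pow_dvd_pow 2 (by omega)
    exact absurd (h4.trans h2) (by decide)
  calc 2 ^ k ≤ 2 ^ 3 := Nat.pow_le_pow_right (by norm_num) h3
    _ = 8 := by norm_num

/-- permutation matrices -/
def w1 : L3 := ⟨!![1, 0, 0; 0, 0, 1; 0, 1, 0], by decide⟩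
def w2 : L3 := ⟨!![0, 1, 0; 1, 0, 0; 0, 0, 1], by decide⟩

theorem w1_conj : w1 * um 0 1 0 * w1⁻¹ = um 1 0 0 := by
  rw [mul_inv_eq_iff_eq_mul]
  decide +kernel

theorem w2_conj : w2 * um 0 1 0 * w2⁻¹ = um 0 0 1 := by
  rw [mul_inv_eq_iff_eq_mul]
  decide +kernel

theorem cent : ∀ p q r : ZMod 2, um p q r * um 1 0 0 = um 1 0 0 * um p q r →
    um p q r * um 0 0 1 = um 0 0 1 * um p q r → um p q r ≠ 1 → um p q r = um 0 1 0 := by
  decide +kernel

theorem decomp : ∀ p q r : ZMod 2, um p q r = um p 0 0 * um 0 0 r * um 0 (q + p * r) 0 := by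
  decide +kernel

theorem cases2 (p : ZMod 2) : p = 0 ∨ p = 1 := by revert p; decide

theorem um_zero : um 0 0 0 = 1 := by decide +kernel

/-- **The row `L₃(2)`.** -/
theorem cr : CR L3 := by
  intro 𝒜 h
  by_cases ht : Triv 𝒜
  · exact Or.inl ht
  right
  obtain ⟨S, hS⟩ := exists_sylow
  have hmem : ∀ x, x ∈ S ↔ ∃ p q r, x = um p q r := fun x => by
    have h1 : x ∈ (S : Subgroup L3) ↔ ∃ p q r, x = um p q r := by rw [hS]; rfl
    exact h1
  obtain ⟨y, hy, hy1, -, hyS, hyc⟩ := exists_central h ht S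
  obtain ⟨p, q, r, rfl⟩ := (hmem y).1 hyS
  have hc : um 0 1 0 ∈ 𝒜 := by
    rw [cent p q r (hyc _ ((hmem _).2 ⟨1, 0, 0, rfl⟩)).symm (hyc _ ((hmem _).2 ⟨0, 0, 1, rfl⟩)).symm hy1] at hy
    exact hy
  have ha : um 1 0 0 ∈ 𝒜 := by rw [← w1_conj]; exact h.conj_mem _ hc _
  have hb : um 0 0 1 ∈ 𝒜 := by rw [← w2_conj]; exact h.conj_mem _ hc _
  have h1 : ∀ p, um p 0 0 ∈ 𝒜 := by
    intro p
    rcases cases2 p with rfl | rfl
    · rw [um_zero]; exact h.one_mem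
    · exact ha
  have h2 : ∀ p, um 0 p 0 ∈ 𝒜 := by
    intro p
    rcases cases2 p with rfl | rfl
    · rw [um_zero]; exact h.one_mem
    · exact hc
  have h3 : ∀ p, um 0 0 p ∈ 𝒜 := by
    intro p
    rcases cases2 p with rfl | rfl
    · rw [um_zero]; exact h.one_mem
    · exact hb
  refine full_of_sylow h S ?_
  intro x hx
  obtain ⟨p, q, r, rfl⟩ := (hmem x).1 hx
  rw [decomp]
  have m1 : um p 0 0 ∈ S := (hmem _).2 ⟨_, _, _, rfl⟩
  have m2 : um 0 0 r ∈ S := (hmem _).2 ⟨_, _, _, rfl⟩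
  have m3 : um 0 (q + p * r) 0 ∈ S := (hmem _).2 ⟨_, _, _, rfl⟩
  exact h.mul_mem S S.2 _ (mul_mem m1 m2) _ m3 (h.mul_mem S S.2 _ m1 _ m2 (h1 p) (h3 r)) (h2 _)

theorem center_eq : center L3 = ⊥ := by
  rw [eq_bot_iff]
  intro g hg
  rw [Subgroup.mem_bot]
  obtain ⟨r, -, h⟩ := Matrix.SpecialLinearGroup.mem_center_iff.1 hg
  rcases cases2 r with rfl | rfl
  · exfalso
    have h1 := g.2
    rw [← h] at h1
    exact absurd h1 (by decide)
  · exact Subtype.ext (by rw [← h]; simp)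

/-- `SL(3, 2)` is simple -/
theorem simple : IsSimpleGroup L3 := by
  haveI := Cfsg.Agent.S0249.result (F := ZMod 2) 3 le_rfl
  let f : L3 →* Matrix.ProjectiveSpecialLinearGroup (Fin 3) (ZMod 2) := QuotientGroup.mk' _
  have hf : Function.Surjective f := QuotientGroup.mk'_surjective _
  have hi : Function.Injective f := by
    rw [← MonoidHom.ker_eq_bot_iff, ← center_eq]
    exact QuotientGroup.ker_mk' _
  haveI : Nontrivial L3 := ⟨⟨um 1 0 0, 1, by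
    rw [← um_zero]
    intro he
    exact absurd (um_inj he).1 (by decide)⟩⟩
  exact MulEquiv.isSimpleGroup (MulEquiv.ofBijective f ⟨hi, hf⟩)

end Cfsg.Agent.Foote.LThreeTwo

end

-- merged: Cfsg.Agent.Foote.HeType
section

/-!
# Foote's theorem, simple case: groups with the involution centraliser `2^{1+6}.L₃(2)` (helper62)

`Hyp z ι`: `C_G(z)` is the centraliser of a transvection of `SL(5, 2)` (`L₅(2)`, `M24`, `He`).
* `full_of_out` : a closed family with an element of `C(z) - O₂(C(z))` contains all the `2`-elements;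
* `cr_of_side`, `cr_of_side'` : `CR G` if there is an element `y` as in `Held.Config` with parameter `1`.
-/

set_option autoImplicit false
set_option linter.style.haveILetI false

namespace Cfsg.Agent.Foote.HeType

open Matrix Subgroup Cfsg.Agent.TwoFusion.ClosedFam Cfsg.Agent.SporadicRecognition.HeldModel
  Cfsg.Agent.Held.AffineIso Cfsg.Agent.KFacts.TwoSix.Base Cfsg.Agent.KFacts.TwoSix.Facts
  Cfsg.Agent.Held.Config Cfsg.Agent.Held.Letters Cfsg.Agent.KFacts.TwoSix.OfSt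

/-- a closed family pulled back along an injective homomorphism -/
theorem isClosedFam_comap {K G : Type*} [Group K] [Group G] {f : K →* G} (hf : Function.Injective f) {𝒜 : Set G}
    (h : IsClosedFam 𝒜) : IsClosedFam (f ⁻¹' 𝒜) where
  one_mem := by
    show f 1 ∈ 𝒜
    rw [map_one]; exact h.one_mem
  conj_mem := by
    intro x hx g
    show f (g * x * g⁻¹) ∈ 𝒜
    rw [map_mul, map_mul, map_inv]
    exact h.conj_mem _ hx _
  two := by
    intro x hx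
    obtain ⟨k, hk⟩ := h.two _ hx
    exact ⟨k, hf (by rw [map_pow, hk, map_one])⟩
  mul_mem := by
    intro Q hQ x hxQ y hyQ hx hy
    show f (x * y) ∈ 𝒜
    rw [map_mul]
    exact h.mul_mem (Q.map f) (hQ.map _) _ ⟨x, hxQ, rfl⟩ _ ⟨y, hyQ, rfl⟩ hx hy

theorem comm_top : commutator CC = ⊤ := by
  rw [_root_.commutator_def]
  apply Subgroup.map_injective CC.subtype_injective
  rw [Subgroup.map_commutator, ← MonoidHom.range_eq_map, Subgroup.range_subtype]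
  exact Cfsg.Agent.KFacts.TwoSix.Aut.perf

theorem R1_le_of_comm {Y : Subgroup L5} (hY : ∀ p ∈ CC, ∀ y ∈ Y, p * y * p⁻¹ ∈ Y)
    (hc : ∀ p ∈ CC, ∀ q ∈ QQ, p * q * p⁻¹ * q⁻¹ ∈ Y) : R1 ≤ Y := by
  have h0 : (Pi.single 1 1 : F4) ⬝ᵥ Pi.single 0 1 = 0 := by decide
  have h3 : (Pi.single 0 1 : F4) 3 = 0 := by decide
  have hT := T_mem h0 h3
  have h1 : (T _ _ h0)⁻¹ * ro (Pi.single 0 1) * (T _ _ h0)⁻¹⁻¹ * (ro (Pi.single 0 1))⁻¹ =
      ro (Pi.single 1 1) := by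
    rw [inv_inv, ro_T _ h0 h3, ro_inv, ← ro_add]
    congr 1
    decide
  have h2 := hc _ (CC.inv_mem hT) _ (R1_le_QQ (ro_mem_R1 (Pi.single 0 1)))
  rw [h1] at h2
  refine Cfsg.Agent.KFacts.TwoSix.Normal.R1_le_of_mem hY h2 (ro_mem_R1 _) ?_ ?_
  · intro h; rw [← ro_zero] at h; exact absurd (ro_inj h) (by decide)
  · intro h; rw [zz_eq] at h; exact absurd (ro_inj h) (by decide)

theorem QQ_le_of_comm {Y : Subgroup L5} (hY : ∀ p ∈ CC, ∀ y ∈ Y, p * y * p⁻¹ ∈ Y)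
    (hc : ∀ p ∈ CC, ∀ q ∈ QQ, p * q * p⁻¹ * q⁻¹ ∈ Y) : QQ ≤ Y := by
  have h1 := R1_le_of_comm hY hc
  have h2 : R1 ≤ Y.comap tau := by
    refine R1_le_of_comm ?_ ?_
    · intro p hp y hy
      rw [mem_comap, map_mul, map_mul, map_inv]
      exact hY _ (tau_mem_CC hp) _ hy
    · intro p hp q hq
      rw [mem_comap, map_mul, map_mul, map_mul, map_inv, map_inv]
      exact hc _ (tau_mem_CC hp) _ (tau_mem_QQ hq)
  intro g hg
  obtain ⟨a, ha, b, hb, rfl⟩ := exists_mul' hg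
  refine Y.mul_mem (h1 ha) ?_
  have h3 := h2 (tau_mem_R1 hb)
  rwa [mem_comap, tau_tau] at h3

variable {G : Type*} [Group G] {z : G} {ι : CC →* G}

/-- the elements of the family in `O₂(C(z))`, as a subgroup of `L5` -/
def YY (ι : CC →* G) (𝒜 : Set G) : Subgroup L5 := (fam (ι ⁻¹' 𝒜) (QQ.subgroupOf CC)).map CC.subtype

theorem mem_YY (h : Hyp z ι) {𝒜 : Set G} (h𝒜 : IsClosedFam 𝒜) {u : CC} :
    (u : L5) ∈ YY ι 𝒜 ↔ ι u ∈ 𝒜 ∧ (u : L5) ∈ QQ := by
  have h1 := (isClosedFam_comap h.inj h𝒜).mem_fam_iff (Q := QQ.subgroupOf CC) isPGroup_QQ (x := u)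
  rw [mem_subgroupOf] at h1
  have h2 : (u : L5) ∈ YY ι 𝒜 ↔ u ∈ fam (ι ⁻¹' 𝒜) (QQ.subgroupOf CC) := by
    constructor
    · rintro ⟨v, hv, e⟩
      have : v = u := Subtype.ext e
      rwa [← this]
    · intro hu
      exact ⟨u, hu, rfl⟩
  exact h2.trans h1

theorem YY_norm (h : Hyp z ι) {𝒜 : Set G} (h𝒜 : IsClosedFam 𝒜) :
    ∀ p ∈ CC, ∀ y ∈ YY ι 𝒜, p * y * p⁻¹ ∈ YY ι 𝒜 := by
  rintro p hp _ ⟨v, hv, rfl⟩
  have h2 := (mem_YY h h𝒜).1 (show (v : L5) ∈ YY ι 𝒜 from ⟨v, hv, rfl⟩)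
  have h1 := (mem_YY h h𝒜 (u := ⟨p, hp⟩ * v * ⟨p, hp⟩⁻¹)).2 ⟨?_, ?_⟩
  · exact h1
  · rw [map_mul, map_mul, map_inv]
    exact h𝒜.conj_mem _ h2.1 _
  · exact norm_QQ hp h2.2

/-- a closed family with an element of `C(z) - O₂(C(z))` is full -/
theorem full_of_out [Finite G] (h : Hyp z ι) {𝒜 : Set G} (h𝒜 : IsClosedFam 𝒜) {u : CC} (hu : ι u ∈ 𝒜)
    (huQ : (u : L5) ∉ QQ) : Full 𝒜 := by
  have hℬ : IsClosedFam (ι ⁻¹' 𝒜) := isClosedFam_comap h.inj h𝒜
  haveI := LThreeTwo.simple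
  obtain ⟨h1, h2⟩ := local_all hℬ comm_top (N := QQ.subgroupOf CC) isPGroup_QQ LThreeTwo.cr toL3 toL3_surjective
    toL3_ker ⟨u, hu, fun hh => huQ (mem_subgroupOf.1 hh)⟩
  have hQ : QQ ≤ YY ι 𝒜 := by
    refine QQ_le_of_comm (YY_norm h h𝒜) ?_
    intro p hp q hq
    have h3 := h1 ⟨p, hp⟩ ⟨q, QQ_le_CC hq⟩ (mem_subgroupOf.2 hq)
    have h5 : p * q * p⁻¹ * q⁻¹ ∈ QQ := QQ.mul_mem (norm_QQ hp hq) (QQ.inv_mem hq)
    generalize hP : (⟨p, hp⟩ : CC) = P at h3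
    generalize hR : (⟨q, QQ_le_CC hq⟩ : CC) = R at h3
    have e1 : (P : L5) = p := by rw [← hP]
    have e2 : (R : L5) = q := by rw [← hR]
    rw [← e1, ← e2, ← Subgroup.coe_inv, ← Subgroup.coe_inv, ← Subgroup.coe_mul, ← Subgroup.coe_mul,
      ← Subgroup.coe_mul] at h5 ⊢
    exact (mem_YY h h𝒜).2 ⟨h3, h5⟩
  obtain ⟨S, hS⟩ := exists_sylow h
  refine full_of_sylow h𝒜 S fun x hx => ?_
  have hx' : x ∈ (S : Subgroup G) := hx
  rw [hS] at hx'
  obtain ⟨t, -, rfl⟩ := hx'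
  have ht : TwoEl t := by
    obtain ⟨k, hk⟩ := twoEl_of_mem S.2 hx
    exact ⟨k, h.inj (by rw [map_pow, hk, map_one])⟩
  obtain ⟨a, ha, n, hn, rfl⟩ := h2 t ht
  have hn' : n ∈ ι ⁻¹' 𝒜 := ((mem_YY h h𝒜).1 (hQ (mem_subgroupOf.1 hn))).1
  exact mul_mem_normal hℬ isPGroup_QQ ha hn hn'

/-- a nontrivial closed family contains `z` -/
theorem z_mem [Finite G] (h : Hyp z ι) {𝒜 : Set G} (h𝒜 : IsClosedFam 𝒜) (hne : ¬ Triv 𝒜) : z ∈ 𝒜 := by
  obtain ⟨S, hS⟩ := exists_sylow h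
  obtain ⟨y, hy, hy1, -, hyS, hyc⟩ := exists_central h𝒜 hne S
  have hyS' : y ∈ (S : Subgroup G) := hyS
  rw [hS] at hyS'
  obtain ⟨t, ht, rfl⟩ := hyS'
  rcases centralizer_T0 (g := (t : L5)) t.2 (fun s hs => by
    have h1 : ι ⟨s, T0_le_CC hs⟩ ∈ S := by
      show _ ∈ (S : Subgroup G)
      rw [hS]
      exact ⟨⟨s, T0_le_CC hs⟩, mem_subgroupOf.2 hs, rfl⟩
    have h2 := hyc _ h1
    rw [← map_mul, ← map_mul] at h2
    exact (congrArg Subtype.val (h.inj h2)).symm) with h1 | h1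
  · exfalso
    apply hy1
    have h2 : t = 1 := Subtype.ext h1
    rw [h2, map_one]
  · have h2 : t = zC := Subtype.ext h1
    rwa [h2, h.map_zz] at hy

theorem x23_not_mem : x 2 3 ∉ QQ := by
  intro h
  have h1 := h 2 3 (by decide)
  rw [coe_x, Matrix.sub_apply, transvection_apply'] at h1
  revert h1
  decide

theorem x03_mem : x 0 3 ∈ R1 := by
  intro i j hij
  rw [coe_x, Matrix.sub_apply, transvection_apply', Matrix.one_apply]
  revert i j
  decide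

theorem x01_mem : x 0 1 ∈ R1 := by
  intro i j hij
  rw [coe_x, Matrix.sub_apply, transvection_apply', Matrix.one_apply]
  revert i j
  decide

theorem x03_ne : x 0 3 ≠ 1 ∧ x 0 3 ≠ zz := by
  constructor
  · intro h
    have := congrArg cd h
    rw [cd_x, cd_one] at this
    exact absurd this (by decide +kernel)
  · intro h
    have := congrArg cd h
    rw [cd_x, cd_zz] at this
    exact absurd this (by decide +kernel)

theorem xC01 : ((xC 0 1 : CC) : L5) = x 0 1 :=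
  congrArg Subtype.val (xC_eq (i := 0) (j := 1) (by decide) (by decide) (by decide))

theorem xC03 : ((xC 0 3 : CC) : L5) = x 0 3 :=
  congrArg Subtype.val (xC_eq (i := 0) (j := 3) (by decide) (by decide) (by decide))

theorem xC23 : ((xC 2 3 : CC) : L5) = x 2 3 :=
  congrArg Subtype.val (xC_eq (i := 2) (j := 3) (by decide) (by decide) (by decide))

/-- **groups with an element `y` of type `Side _ 1`** -/
theorem cr_of_side [Finite G] (h : Hyp z ι) {xg : ℕ → ℕ → G} (hx : ∀ n < 12, ι (gx xC n) = gx xg n) {y : G}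
    (hs : Side xg 1 y) : CR G := by
  intro 𝒜 h𝒜
  by_cases ht : Triv 𝒜
  · exact Or.inl ht
  right
  have hz := z_mem h h𝒜 ht
  have e01 : ι (xC 0 1) = xg 0 1 := hx 0 (by norm_num)
  have e03 : ι (xC 0 3) = xg 0 3 := hx 2 (by norm_num)
  have e04 : ι (xC 0 4) = xg 0 4 := hx 3 (by norm_num)
  have e23 : ι (xC 2 3) = xg 2 3 := hx 7 (by norm_num)
  rw [xC04, h.map_zz] at e04
  have m03 : ι (xC 0 3) ∈ 𝒜 := by
    have h1 := hs.act3 0 (by norm_num)
    rw [e03, show xg 0 3 = y * xg 0 4 * y⁻¹ by rw [← h1]; group, ← e04]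
    exact h𝒜.conj_mem _ hz _
  have m01 : ι (xC 0 1) ∈ 𝒜 := by
    have h1 : R1 ≤ YY ι 𝒜 := Cfsg.Agent.KFacts.TwoSix.Normal.R1_le_of_mem (YY_norm h h𝒜)
      ((mem_YY h h𝒜 (u := xC 0 3)).2 ⟨m03, by rw [xC03]; exact R1_le_QQ x03_mem⟩)
      (by rw [xC03]; exact x03_mem) (by rw [xC03]; exact x03_ne.1) (by rw [xC03]; exact x03_ne.2)
    exact ((mem_YY h h𝒜).1 (h1 (by rw [xC01]; exact x01_mem))).1
  refine full_of_out h h𝒜 (u := xC 0 1 * (xC 0 3 * xC 2 3)) ?_ ?_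
  · have h1 := hs.x01
    rw [pow_one] at h1
    rw [map_mul, map_mul, e01, e03, e23,
      show xg 0 1 * (xg 0 3 * xg 2 3) = y⁻¹ * xg 0 1 * y⁻¹⁻¹ by rw [inv_inv, mul_assoc, h1]; group, ← e01]
    exact h𝒜.conj_mem _ m01 _
  · intro hQ
    rw [Subgroup.coe_mul, Subgroup.coe_mul, xC01, xC03, xC23,
      QQ.mul_mem_cancel_left (R1_le_QQ x01_mem), QQ.mul_mem_cancel_left (R1_le_QQ x03_mem)] at hQ
    exact x23_not_mem hQ

end Cfsg.Agent.Foote.HeType

end
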