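import Cfsg.Agent.TwoFusion.ClosedFam
import Cfsg.Agent.S1241

-- merged: Cfsg.Agent.Foote.Base
section

/-!
# Foote's theorem, simple case: the language of the rows (helper29)

For a finite group `G`, `CR G`: every closed family of `2`-elements (equivalently: every strongly closed subgroup of a
Sylow `2`-subgroup) is trivial or contains all the `2`-elements.
-/

set_option autoImplicit false
set_option linter.style.haveILetI false

namespace Cfsg.Agent.Foote

open Subgroup Cfsg.Agent.TwoFusion.ClosedFam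

variable {G : Type*} [Group G]

/-- `x` is a 2-element -/
def TwoEl (x : G) : Prop := ∃ k : ℕ, x ^ 2 ^ k = 1

/-- the family is trivial -/
def Triv (𝒜 : Set G) : Prop := ∀ x ∈ 𝒜, x = 1

/-- the family contains all the 2-elements -/
def Full (𝒜 : Set G) : Prop := ∀ x : G, TwoEl x → x ∈ 𝒜

/-- every closed family is trivial or full -/
def CR (G : Type*) [Group G] : Prop := ∀ 𝒜 : Set G, IsClosedFam 𝒜 → Triv 𝒜 ∨ Full 𝒜

/-- class at most two -/
def Cls2 (A : Subgroup G) : Prop :=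
  ∀ a ∈ A, ∀ b ∈ A, ∀ c ∈ A, (a * b * a⁻¹ * b⁻¹) * c = c * (a * b * a⁻¹ * b⁻¹)

/-- the strongly closed subgroup has class at least three -/
def Deep (𝒜 : Set G) : Prop := ∀ S : Sylow 2 G, ¬ Cls2 (fam 𝒜 (S : Subgroup G))

/-- row format: the strongly closed subgroups of class at least three are the Sylow subgroups -/
def FRow (G : Type*) [Group G] : Prop := ∀ 𝒜 : Set G, IsClosedFam 𝒜 → Deep 𝒜 → Full 𝒜

theorem Cls2.mono {A B : Subgroup G} (h : Cls2 B) (hAB : A ≤ B) : Cls2 A :=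
  fun a ha b hb c hc => h a (hAB ha) b (hAB hb) c (hAB hc)

theorem cls2_of_comm {A : Subgroup G} (h : ∀ a ∈ A, ∀ b ∈ A, a * b = b * a) : Cls2 A := by
  intro a ha b hb c hc
  have e : a * b * a⁻¹ * b⁻¹ = 1 := by rw [h a ha b hb]; group
  rw [e, one_mul, mul_one]

theorem twoEl_one : TwoEl (1 : G) := ⟨0, by simp⟩

theorem TwoEl.conj {x : G} (h : TwoEl x) (g : G) : TwoEl (g * x * g⁻¹) := by
  obtain ⟨k, hk⟩ := h
  exact ⟨k, by rw [conj_pow, hk]; group⟩

theorem TwoEl.map {K : Type*} [Group K] (f : G →* K) {x : G} (h : TwoEl x) : TwoEl (f x) := by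
  obtain ⟨k, hk⟩ := h
  exact ⟨k, by rw [← map_pow, hk, map_one]⟩

theorem twoEl_coe {H : Subgroup G} {x : H} : TwoEl (x : G) ↔ TwoEl x := by
  constructor
  · rintro ⟨k, hk⟩
    exact ⟨k, Subtype.ext (by simpa using hk)⟩
  · intro h
    exact h.map H.subtype

theorem twoEl_of_mem {Q : Subgroup G} (hQ : IsPGroup 2 Q) {x : G} (hx : x ∈ Q) : TwoEl x := by
  obtain ⟨k, hk⟩ := hQ ⟨x, hx⟩
  exact ⟨k, congrArg Subtype.val hk⟩

theorem TwoEl.isPGroup {x : G} (h : TwoEl x) : IsPGroup 2 (zpowers x) := by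
  obtain ⟨k, hk⟩ := h
  rintro ⟨y, hy⟩
  refine ⟨k, ?_⟩
  obtain ⟨n, rfl⟩ := mem_zpowers_iff.1 hy
  apply Subtype.ext
  simp only [SubmonoidClass.mk_pow, OneMemClass.coe_one]
  rw [← zpow_natCast, ← zpow_mul, mul_comm, zpow_mul, zpow_natCast, hk, one_zpow]

theorem TwoEl.exists_conj_mem [Finite G] {x : G} (h : TwoEl x) (S : Sylow 2 G) : ∃ g : G, g * x * g⁻¹ ∈ S := by
  haveI : Fact (Nat.Prime 2) := ⟨Nat.prime_two⟩
  obtain ⟨T, hT⟩ := h.isPGroup.exists_le_sylow
  obtain ⟨c, hc⟩ := MulAction.exists_smul_eq G T S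
  refine ⟨c, ?_⟩
  rw [← hc]
  exact ⟨x, hT (mem_zpowers x), rfl⟩

/-! ### Full and trivial families -/

theorem full_of_sylow [Finite G] {𝒜 : Set G} (h : IsClosedFam 𝒜) (S : Sylow 2 G)
    (hS : ∀ x ∈ S, x ∈ 𝒜) : Full 𝒜 := by
  intro x hx
  obtain ⟨g, hg⟩ := hx.exists_conj_mem S
  exact (h.conj_mem_iff g).1 (hS _ hg)

theorem triv_of_sylow [Finite G] {𝒜 : Set G} (h : IsClosedFam 𝒜) (S : Sylow 2 G)
    (hS : ∀ x ∈ 𝒜, x ∈ S → x = 1) : Triv 𝒜 := by
  intro x hx
  obtain ⟨g, hg⟩ := TwoEl.exists_conj_mem (h.two x hx) S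
  have h1 := hS _ (h.conj_mem x hx g) hg
  have : x = g⁻¹ * (g * x * g⁻¹) * g := by group
  rw [this, h1]; group

/-- a subgroup of odd index contains a Sylow `2`-subgroup -/
theorem exists_sylow_le [Finite G] {H : Subgroup G} (hH : ¬ 2 ∣ H.index) :
    ∃ S : Sylow 2 G, (S : Subgroup G) ≤ H := by
  haveI : Fact (Nat.Prime 2) := ⟨Nat.prime_two⟩
  obtain ⟨T⟩ : Nonempty (Sylow 2 H) := inferInstance
  obtain ⟨S, hS⟩ := (T.2.map H.subtype).exists_le_sylow
  refine ⟨S, ?_⟩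
  have h1 : Nat.card ((T : Subgroup H).map H.subtype : Subgroup G) = Nat.card T :=
    Nat.card_congr ((T : Subgroup H).equivMapOfInjective _ H.subtype_injective).toEquiv.symm
  have h2 : Nat.card T = 2 ^ (Nat.card H).factorization 2 := T.card_eq_multiplicity
  have h3 : Nat.card S = 2 ^ (Nat.card G).factorization 2 := S.card_eq_multiplicity
  have h4 : (Nat.card G).factorization 2 = (Nat.card H).factorization 2 := by
    rw [← H.card_mul_index, Nat.factorization_mul Nat.card_pos.ne' (index_ne_zero_of_finite),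
      Finsupp.add_apply, Nat.factorization_eq_zero_of_not_dvd hH, add_zero]
  have h5 : (T : Subgroup H).map H.subtype = (S : Subgroup G) := by
    apply eq_of_le_of_card_ge hS
    rw [h1]
    exact le_of_eq (by rw [h3, h4, ← h2])
  rw [← h5]
  exact map_subtype_le _

theorem full_of_odd [Finite G] {𝒜 : Set G} (h : IsClosedFam 𝒜) {H : Subgroup G} (hH : ¬ 2 ∣ H.index)
    (hS : ∀ x ∈ H, TwoEl x → x ∈ 𝒜) : Full 𝒜 := by
  obtain ⟨S, hS'⟩ := exists_sylow_le hH
  exact full_of_sylow h S fun x hx => hS x (hS' hx) (twoEl_of_mem S.2 hx)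

theorem triv_of_odd [Finite G] {𝒜 : Set G} (h : IsClosedFam 𝒜) {H : Subgroup G} (hH : ¬ 2 ∣ H.index)
    (hS : ∀ x ∈ 𝒜, x ∈ H → x = 1) : Triv 𝒜 := by
  obtain ⟨S, hS'⟩ := exists_sylow_le hH
  exact triv_of_sylow h S fun x hx hxS => hS x hx (hS' hxS)

/-- a subgroup of odd index with the property -/
theorem CR.of_odd_index [Finite G] {H : Subgroup G} (hH : ¬ 2 ∣ H.index) (hc : CR H) : CR G := by
  intro 𝒜 h
  rcases hc _ (h.restrict H) with h1 | h1
  · exact Or.inl (triv_of_odd h hH fun x hx hxH => congrArg Subtype.val (h1 ⟨x, hxH⟩ hx))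
  · exact Or.inr (full_of_odd h hH fun x hxH hx => h1 ⟨x, hxH⟩ (twoEl_coe.1 hx))

/-- a closed family pulled back along an isomorphism -/
theorem isClosedFam_preimage {K : Type*} [Group K] (e : K ≃* G) {𝒜 : Set G} (h : IsClosedFam 𝒜) :
    IsClosedFam (e ⁻¹' 𝒜) where
  one_mem := by
    show e 1 ∈ 𝒜
    rw [map_one]; exact h.one_mem
  conj_mem := by
    intro x hx g
    show e (g * x * g⁻¹) ∈ 𝒜
    rw [map_mul, map_mul, map_inv]
    exact h.conj_mem _ hx _
  two := by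
    intro x hx
    obtain ⟨k, hk⟩ := h.two _ hx
    exact ⟨k, e.injective (by rw [map_pow, hk, map_one])⟩
  mul_mem := by
    intro Q hQ x hxQ y hyQ hx hy
    show e (x * y) ∈ 𝒜
    rw [map_mul]
    exact h.mul_mem (Q.map e.toMonoidHom) (hQ.map _) _ ⟨x, hxQ, rfl⟩ _ ⟨y, hyQ, rfl⟩ hx hy

theorem CR.of_equiv {K : Type*} [Group K] (hc : CR G) (e : K ≃* G) : CR K := by
  intro 𝒜 h
  rcases hc _ (isClosedFam_preimage e.symm h) with h1 | h1
  · left
    intro x hx
    have h2 : e x = 1 := h1 (e x) (by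
      show e.symm (e x) ∈ 𝒜
      rw [e.symm_apply_apply]; exact hx)
    exact e.injective (by rw [h2, map_one])
  · right
    intro x hx
    have h2 : e.symm (e x) ∈ 𝒜 := h1 (e x) (hx.map e.toMonoidHom)
    rwa [e.symm_apply_apply] at h2

/-- perfectness is invariant under isomorphisms -/
theorem perfect_map {K : Type*} [Group K] (e : G ≃* K) (h : commutator G = ⊤) : commutator K = ⊤ := by
  have h1 : (⊤ : Subgroup G).map e.toMonoidHom = ⊤ := by
    rw [← MonoidHom.range_eq_map]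
    exact MonoidHom.range_eq_top.2 e.surjective
  have h2 := Subgroup.map_commutator (⊤ : Subgroup G) ⊤ e.toMonoidHom
  have h3 : ⁅(⊤ : Subgroup G), ⊤⁆ = ⊤ := h
  rw [h3, h1] at h2
  exact h2.symm

/-! ### Restriction of the hypothesis `Deep` -/

theorem Deep.not_cls2_of_forall [Finite G] {𝒜 : Set G} (hd : Deep 𝒜) {H B : Subgroup G}
    (hH : ¬ 2 ∣ H.index) (hB : ∀ x ∈ 𝒜, x ∈ H → x ∈ B) : ¬ Cls2 B := by
  intro hc
  obtain ⟨S, hS⟩ := exists_sylow_le hH
  refine hd S (hc.mono ?_)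
  rw [fam_le_iff]
  exact fun x hx hxS => hB x hx (hS hxS)

/-- for `H` of odd index and a subgroup `B` of class at most two there is an element of the family in `H - B` -/
theorem Deep.exists_mem [Finite G] {𝒜 : Set G} (hd : Deep 𝒜) {H B : Subgroup G}
    (hH : ¬ 2 ∣ H.index) (hB : Cls2 B) : ∃ x ∈ 𝒜, x ∈ H ∧ x ∉ B := by
  by_contra hcon
  push Not at hcon
  exact hd.not_cls2_of_forall hH hcon hB

/-- `Deep` is inherited by subgroups of odd index -/
theorem Deep.restrict [Finite G] {𝒜 : Set G} (hd : Deep 𝒜) {H : Subgroup G}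
    (hH : ¬ 2 ∣ H.index) : Deep {x : H | (x : G) ∈ 𝒜} := by
  haveI : Fact (Nat.Prime 2) := ⟨Nat.prime_two⟩
  intro T hT
  have h1 : IsPGroup 2 ((T : Subgroup H).map H.subtype : Subgroup G) := T.2.map _
  obtain ⟨S, hS⟩ := exists_sylow_le hH
  -- the image of `T` is a Sylow subgroup of `G`
  obtain ⟨S', hS'⟩ := h1.exists_le_sylow
  have c1 : Nat.card ((T : Subgroup H).map H.subtype : Subgroup G) = Nat.card T :=
    Nat.card_congr ((T : Subgroup H).equivMapOfInjective _ H.subtype_injective).toEquiv.symm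
  have c2 : Nat.card T = 2 ^ (Nat.card H).factorization 2 := T.card_eq_multiplicity
  have c3 : Nat.card S' = 2 ^ (Nat.card G).factorization 2 := S'.card_eq_multiplicity
  have c4 : (Nat.card G).factorization 2 = (Nat.card H).factorization 2 := by
    rw [← H.card_mul_index, Nat.factorization_mul Nat.card_pos.ne' (index_ne_zero_of_finite),
      Finsupp.add_apply, Nat.factorization_eq_zero_of_not_dvd hH, add_zero]
  have h5 : (T : Subgroup H).map H.subtype = (S' : Subgroup G) := by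
    apply eq_of_le_of_card_ge hS'
    rw [c1]
    exact le_of_eq (by rw [c3, c4, ← c2])
  refine hd S' ?_
  rw [← h5, ← map_fam_restrict]
  rintro _ ⟨a, ha, rfl⟩ _ ⟨b, hb, rfl⟩ _ ⟨c, hc, rfl⟩
  have := congrArg (fun t : H => (t : G)) (hT a ha b hb c hc)
  simpa using this

end Cfsg.Agent.Foote

end

-- merged: Cfsg.Agent.Foote.Transfer
section

/-!
# Foote's theorem, simple case: the transfer lemma (helper29)

`G` perfect, `A` strongly closed in `S`: then `S/A` is not cyclic, unless `A = S`.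
-/

set_option autoImplicit false
set_option linter.style.haveILetI false

namespace Cfsg.Agent.Foote

open Subgroup Cfsg.Agent.TwoFusion.ClosedFam

variable {G : Type*} [Group G]

/-- transfer: if the Sylow subgroup is `A⟨s⟩` with `A` strongly closed, `G` perfect, then `A = S` -/
theorem full_of_cyclic [Finite G] (hG : commutator G = ⊤) {𝒜 : Set G} (h : IsClosedFam 𝒜) (S : Sylow 2 G)
    (s : G) (hs : s ∈ S) (hcyc : ∀ x ∈ S, ∃ n : ℤ, x * s ^ n ∈ 𝒜) : Full 𝒜 := by
  haveI : Fact (Nat.Prime 2) := ⟨Nat.prime_two⟩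
  by_contra hfull
  have hx : ∃ x ∈ S, x ∉ 𝒜 := by
    by_contra hcon
    push Not at hcon
    exact hfull (full_of_sylow h S hcon)
  obtain ⟨x₀, hx₀S, hx₀⟩ := hx
  set A : Subgroup G := fam 𝒜 (S : Subgroup G) with hA
  have hmem : ∀ x : G, x ∈ A ↔ x ∈ 𝒜 ∧ x ∈ S := fun x => h.mem_fam_iff S.2
  have hAS : A ≤ S := fam_le _ _
  have hnorm : (S : Subgroup G) ≤ normalizer (A : Set G) := h.le_normalizer_fam _
  haveI hN : (A.subgroupOf (S : Subgroup G)).Normal := by
    refine ⟨fun n hn g => ?_⟩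
    rw [mem_subgroupOf] at hn ⊢
    have := (mem_normalizer_iff.1 (hnorm g.2) n).1 hn
    simpa using this
  let π : (S : Subgroup G) →* (S : Subgroup G) ⧸ (A.subgroupOf (S : Subgroup G)) := QuotientGroup.mk' _
  have hπ : ∀ x : (S : Subgroup G), π x = 1 ↔ (x : G) ∈ 𝒜 := by
    intro x
    show QuotientGroup.mk' _ x = 1 ↔ _
    rw [QuotientGroup.mk'_apply, QuotientGroup.eq_one_iff, mem_subgroupOf, hmem]
    exact ⟨fun h => h.1, fun h => ⟨h, x.2⟩⟩
  let s' : (S : Subgroup G) := ⟨s, hs⟩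
  have hgen : ∀ x : (S : Subgroup G), ∃ n : ℤ, π x = π s' ^ n := by
    intro x
    obtain ⟨n, hn⟩ := hcyc x x.2
    refine ⟨-n, ?_⟩
    have h1 : π (x * s' ^ n) = 1 := (hπ _).2 (by simpa [s'] using hn)
    rw [map_mul, map_zpow] at h1
    rw [zpow_neg]
    exact eq_inv_of_mul_eq_one_left h1
  -- the order of `π s'`
  obtain ⟨k, hk⟩ : ∃ k, orderOf (π s') = 2 ^ k := by
    obtain ⟨m, hm⟩ := S.2 s'
    have h1 : orderOf (π s') ∣ 2 ^ m := orderOf_dvd_of_pow_eq_one (by rw [← map_pow, hm, map_one])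
    obtain ⟨k, -, hk⟩ := (Nat.dvd_prime_pow Nat.prime_two).1 h1
    exact ⟨k, hk⟩
  have hk0 : k ≠ 0 := by
    rintro rfl
    rw [pow_zero, orderOf_eq_one_iff] at hk
    obtain ⟨n, hn⟩ := hgen ⟨x₀, hx₀S⟩
    rw [hk, one_zpow] at hn
    exact hx₀ ((hπ _).1 hn)
  obtain ⟨j, rfl⟩ : ∃ j, k = j + 1 := ⟨k - 1, by omega⟩
  set g' : (S : Subgroup G) := s' ^ 2 ^ j with hg'
  have hg1 : π g' ≠ 1 := by
    rw [hg', map_pow]
    intro h1
    have h2 := orderOf_dvd_of_pow_eq_one h1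
    rw [hk] at h2
    have h3 := Nat.le_of_dvd (by positivity) h2
    have h4 : 2 ^ j < 2 ^ (j + 1) := Nat.pow_lt_pow_right (by norm_num) (Nat.lt_succ_self j)
    omega
  have hg2 : π g' * π g' = 1 := by
    rw [hg', ← map_mul, ← pow_add, map_pow]
    have : 2 ^ j + 2 ^ j = orderOf (π s') := by rw [hk, pow_succ]; ring
    rw [this, pow_orderOf_eq_one]
  have huniq : ∀ y : (S : Subgroup G), π y ≠ 1 → π y * π y = 1 → π y = π g' := by
    intro y hy1 hy2
    obtain ⟨n, hn⟩ := hgen y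
    rw [hn, ← zpow_add] at hy2
    have h1 := orderOf_dvd_iff_zpow_eq_one.2 hy2
    rw [hk] at h1
    have h2 : (2 ^ j : ℤ) ∣ n := by
      have h3 : (2 : ℤ) * 2 ^ j ∣ 2 * n := by
        have e : ((2 ^ (j + 1) : ℕ) : ℤ) = 2 * 2 ^ j := by push_cast; ring
        rw [e] at h1
        have e2 : n + n = 2 * n := by ring
        rwa [e2] at h1
      exact Int.dvd_of_mul_dvd_mul_left (by norm_num) h3
    obtain ⟨m, rfl⟩ := h2
    have h3 : π y = π g' ^ m := by
      rw [hn, hg', map_pow, ← zpow_natCast, ← zpow_mul]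
      push_cast
      rfl
    rcases Int.even_or_odd' m with ⟨c, rfl | rfl⟩
    · exfalso
      apply hy1
      rw [h3, zpow_mul, zpow_two, hg2, one_zpow]
    · rw [h3, zpow_add, zpow_mul, zpow_two, hg2, one_zpow, one_mul, zpow_one]
  -- now the transfer
  have hgS : (g' : G) ∈ (S : Subgroup G) := g'.2
  have hgA : (g' : G) ∉ A := fun hh => hg1 ((hπ _).2 ((hmem _).1 hh).1)
  have hgg : (g' : G) * (g' : G) ∈ 𝒜 := by
    have : π (g' * g') = 1 := by rw [map_mul, hg2]
    simpa using (hπ _).1 this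
  have habel : ∀ x ∈ (S : Subgroup G), ∀ y ∈ (S : Subgroup G), x * y * x⁻¹ * y⁻¹ ∈ A := by
    intro x hx y hy
    have h1 : π (⟨x, hx⟩ * ⟨y, hy⟩ * ⟨x, hx⟩⁻¹ * ⟨y, hy⟩⁻¹) = 1 := by
      obtain ⟨n, hn⟩ := hgen ⟨x, hx⟩
      obtain ⟨m, hm⟩ := hgen ⟨y, hy⟩
      rw [map_mul, map_mul, map_mul, map_inv, map_inv, hn, hm, ← zpow_neg, ← zpow_neg, ← zpow_add, ← zpow_add,
        ← zpow_add]
      have : n + m + -n + -m = 0 := by ring
      rw [this, zpow_zero]
    have h2 := (hπ _).1 h1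
    exact (hmem _).2 ⟨by simpa using h2,
      mul_mem (mul_mem (mul_mem hx hy) (inv_mem hx)) (inv_mem hy)⟩
  refine Cfsg.Agent.S1241.result (p := 2) (S : Subgroup G) A hAS hN habel ?_ (g' : G) hgS hgA ?_ ?_
    (by rw [hG]; exact mem_top _)
  · exact (Nat.Prime.coprime_iff_not_dvd Nat.prime_two).2 (by
      haveI : (S : Subgroup G).FiniteIndex := inferInstance
      exact Sylow.not_dvd_index' S (index_ne_zero_of_finite))
  · obtain ⟨m, hm⟩ := S.2 g'
    have h1 : orderOf (g' : G) ∣ 2 ^ m := orderOf_dvd_of_pow_eq_one (by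
      have := congrArg Subtype.val hm
      simpa using this)
    obtain ⟨k, -, hk⟩ := (Nat.dvd_prime_pow Nat.prime_two).1 h1
    exact ⟨k, hk⟩
  · intro m a ha
    rcases Int.even_or_odd' m with ⟨c, rfl | rfl⟩
    · have h1 : (g' : G) ^ (2 * c) ∈ 𝒜 := by
        rw [zpow_mul, zpow_two]
        exact h.zpow_mem hgg c
      have h2 : a * (g' : G) ^ (2 * c) * a⁻¹ ∈ A := (hmem _).2 ⟨h.conj_mem _ h1 a, ha⟩
      have h3 : (g' : G) ^ (2 * c) ∈ A := (hmem _).2 ⟨h1, zpow_mem hgS _⟩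
      exact mul_mem h2 (inv_mem h3)
    · set y : G := a * (g' : G) ^ (2 * c + 1) * a⁻¹ with hy
      have hodd : π (g' ^ (2 * c + 1)) = π g' := by
        rw [map_zpow, zpow_add, zpow_mul, zpow_two, hg2, one_zpow, one_mul, zpow_one]
      have hy1 : π ⟨y, ha⟩ ≠ 1 := by
        intro h1
        have h2 := (hπ _).1 h1
        have h3 : (g' : G) ^ (2 * c + 1) ∈ 𝒜 := (h.conj_mem_iff a).1 h2
        have h4 : π (g' ^ (2 * c + 1)) = 1 := (hπ _).2 (by simpa using h3)
        rw [hodd] at h4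
        exact hg1 h4
      have hy2 : π ⟨y, ha⟩ * π ⟨y, ha⟩ = 1 := by
        rw [← map_mul]
        refine (hπ _).2 ?_
        show y * y ∈ 𝒜
        have e : y * y = a * ((g' : G) * (g' : G)) ^ (2 * c + 1) * a⁻¹ := by
          have e1 : ((g' : G) * (g' : G)) ^ (2 * c + 1) = (g' : G) ^ (2 * c + 1) * (g' : G) ^ (2 * c + 1) := by
            rw [← zpow_two, ← zpow_mul, ← zpow_add]
            congr 1
            ring
          rw [e1, hy]; group
        rw [e]
        exact h.conj_mem _ (h.zpow_mem hgg _) a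
      have hy3 : π ⟨y, ha⟩ = π (g' ^ (2 * c + 1)) := by rw [hodd]; exact huniq _ hy1 hy2
      have hy4 : π (⟨y, ha⟩ * (g' ^ (2 * c + 1))⁻¹) = 1 := by
        rw [map_mul, map_inv, hy3, mul_inv_cancel]
      have h5 := (hπ _).1 hy4
      refine (hmem _).2 ⟨by simpa using h5, mul_mem ha (inv_mem (zpow_mem hgS _))⟩

end Cfsg.Agent.Foote

end
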